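import Groth.Agent.HTorCompute.Conv
import Groth.Agent.DCohMore.PerfHom
import Groth.Agent.DCohMore.RpushBdd
import Groth.Agent.DRingLib.BaseChange
import Groth.Agent.CohBase.MV
import Mathlib.Algebra.Category.ModuleCat.Products

/-!
# Amplitude of `RΓ` for a separated scheme over an affine scheme, and bounded representatives
-/

set_option autoImplicit false
set_option linter.style.haveILetI false
set_option linter.unusedSectionVars false
set_option backward.isDefEq.respectTransparency false
set_option maxHeartbeats 1000000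

universe u

open CategoryTheory Limits AlgebraicGeometry Opposite TopologicalSpace DirectSum

attribute [local instance] HasDerivedCategory.standard

noncomputable section

namespace Groth.Agent.HTorCompute

open Groth.Agent.DCohLib Groth.Agent.CohBase

variable {A : Type u} [CommRing A] {X : Scheme.{u}} (f : X ⟶ Spec (CommRingCat.of A))

/-- Higher direct images to an affine scheme vanish above the number of affine opens. -/
theorem isZero_rpush_of_cover [QuasiCompact f] [IsSeparated f] [HasInjectiveResolutions X.Modules] (N : ℕ)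
    (U : Fin (N + 1) → X.Opens) (hU : ∀ i, IsAffineOpen (U i)) (hcov : ⨆ i, U i = ⊤)
    (M : X.Modules) (hM : Coh.IsQCoh M) (p : ℕ) (hp : N < p) : IsZero ((Coh.Rpush f p).obj M) := by
  obtain ⟨p, rfl⟩ : ∃ n, p = n + 1 := ⟨p - 1, by omega⟩
  haveI := hM
  haveI hd : IsAffineHom (pullback.diagonal (terminal.from X)) := by
    haveI : IsSeparated (terminal.from X) := by
      rw [← terminal.comp_from f]
      infer_instance
    infer_instance
  have h : IsZero ((Coh.RpushAb f (p + 1)).obj (Coh.toAb M)) := by
    refine RpushLib.isZero_rightDerived_at f.base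
      (B := fun V => ∃ g : Γ(Spec (CommRingCat.of A), ⊤), V = (Spec (CommRingCat.of A)).basicOpen g)
      (fun W y hy => ?_) (Coh.toAb M) p ?_
    · obtain ⟨g, hgW, hyg⟩ := (isAffineOpen_top (Spec (CommRingCat.of A))).exists_basicOpen_le
        (V := W) ⟨y, hy⟩ (show y ∈ (⊤ : (Spec (CommRingCat.of A)).Opens) from trivial)
      exact ⟨_, ⟨g, rfl⟩, hyg, hgW⟩
    · rintro _ ⟨g, rfl⟩
      let a : Γ(X, ⊤) := f.appTop g
      have haff : ∀ i, IsAffineOpen (U i ⊓ f ⁻¹ᵁ (Spec (CommRingCat.of A)).basicOpen g) := fun i => by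
        rw [Scheme.preimage_basicOpen]
        rw [show U i ⊓ X.basicOpen (f.app ⊤ g) =
          X.basicOpen (X.presheaf.map (homOfLE (le_top : U i ≤ ⊤)).op (f.app ⊤ g)) from
            (X.basicOpen_res _ _).symm]
        exact (hU i).basicOpen _
      have he : f ⁻¹ᵁ (Spec (CommRingCat.of A)).basicOpen g =
          ⨆ i, U i ⊓ f ⁻¹ᵁ (Spec (CommRingCat.of A)).basicOpen g := by
        rw [← iSup_inf_eq, hcov, top_inf_eq]
      have := subsingleton_HU_iUnion (Coh.toAb M) (fun W : Opens X => IsAffineOpen (X := X) W)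
        (fun hV hW => IsAffineOpen.inf hV hW) (fun hV n => affine_vanishing M hV n) (N + 1) _ haff (p + 1)
        (by omega)
      rw [← he] at this
      exact this
  have h' : IsZero ((QCohLib.toAbF (Spec (CommRingCat.of A))).obj ((Coh.Rpush f (p + 1)).obj M)) :=
    h.of_iso ((RpushLib.toAbRpushIso f (p + 1)).app M)
  haveI : (QCohLib.toAbF (Spec (CommRingCat.of A))).Faithful :=
    inferInstanceAs (SheafOfModules.toSheaf.{u} (Spec (CommRingCat.of A)).ringCatSheaf).Faithful
  rw [IsZero.iff_id_eq_zero]
  exact (QCohLib.toAbF _).map_injective (h'.eq_of_src _ _)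

omit f in
/-- Derived direct images of objects `≤ c` are `≤ c + N` if higher direct images vanish above `N`. -/
theorem isLE_rpush_of_bound {Y : Scheme.{u}} (f : X ⟶ Y) [QuasiCompact f] [QuasiSeparated f]
    [CompactSpace Y] [DCoh.HasRpush f] [HasInjectiveResolutions X.Modules] (N : ℕ)
    (hN : ∀ F : X.Modules, Coh.IsQCoh F → ∀ p : ℕ, N < p → IsZero ((Coh.Rpush f p).obj F))
    (Z : DCoh.D X) (c : ℤ) (hZ : DCoh.IsQCohD Z) (hc : Z.IsLE c) :
    ((DCoh.Rpush f).obj Z).IsLE (c + N) := by
  haveI : HasInjectiveResolutions (ModSite.Mod X.sheaf) := ‹HasInjectiveResolutions X.Modules›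
  haveI : SiteCmp.HasRpushD (ModSite.RMor.ofScheme f) := ‹DCoh.HasRpush f›
  let g := ModSite.RMor.ofScheme f
  obtain ⟨_, _⟩ := SiteCmpLib.exists_triangulated_rpushD g
  refine (DerivedCategory.isLE_iff _ _).2 fun j hj => ?_
  let k : ℤ := c + 1
  let Z' := Z⟦k⟧
  have hZ' : DCoh.IsQCohD Z' := fun i =>
    isQCoh_of_iso' (((DerivedCategory.homologyFunctor X.Modules 0).shiftIso k i (k + i) rfl).app Z).symm (hZ (k + i))
  have hc' : ∀ i, -1 < i → IsZero ((DerivedCategory.homologyFunctor X.Modules i).obj Z') := fun i hi =>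
    ((DerivedCategory.isLE_iff Z c).1 hc (k + i) (by omega)).of_iso
      (((DerivedCategory.homologyFunctor X.Modules 0).shiftIso k i (k + i) rfl).app Z)
  obtain ⟨-, hst⟩ := SiteCmpLib.cohIn_and_isIso_truncGEπ g (DCohMore.qcP X) X.affineOpens Y.affineOpens
    (DCohMore.affine_hB X) (DCohMore.affine_hA X) (DCohMore.affine_hB Y) (N : ℤ)
    (fun F hF p hp => hN F hF p (by omega)) Z' hZ' (DCohMore.qcP Y)
    (fun F hF p => by
      haveI : Coh.IsQCoh (X := X) F := hF
      exact RpushLib.isQCoh_rpush f p) (DCohMore.affine_hA Y)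
  have hiso := hst 0 (j - k) (by omega)
  let t : CategoryTheory.Triangulated.TStructure (DCoh.D X) := DerivedCategory.TStructure.t
  have hL : IsZero ((t.truncGE (-((0 : ℕ) : ℤ))).obj Z') := isZero_of_isZero_HD fun i => by
    rcases lt_or_ge i 0 with h | h
    · haveI : ((t.truncGE (-((0 : ℕ) : ℤ))).obj Z').IsGE 0 :=
        inferInstanceAs (t.IsGE ((t.truncGE (-((0 : ℕ) : ℤ))).obj Z') (-((0 : ℕ) : ℤ)))
      exact DerivedCategory.isZero_of_isGE _ 0 i h
    · haveI := DCohLib.isIso_homology_truncGEπ Z' (-((0 : ℕ) : ℤ)) i (by omega)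
      exact (hc' i (by omega)).of_iso
        (asIso ((DerivedCategory.homologyFunctor X.Modules i).map ((t.truncGEπ (-((0 : ℕ) : ℤ))).app Z'))).symm
  have hz : IsZero ((DerivedCategory.homologyFunctor Y.Modules (j - k)).obj ((SiteCmp.RpushD g).obj Z')) :=
    ((DerivedCategory.homologyFunctor Y.Modules (j - k)).map_isZero ((SiteCmp.RpushD g).map_isZero hL)).of_iso
      (@asIso _ _ _ _ _ hiso)
  exact hz.of_iso ((((DerivedCategory.homologyFunctor Y.Modules 0).shiftIso k (j - k) j (by omega)).app _).symm ≪≫
    (DerivedCategory.homologyFunctor Y.Modules (j - k)).mapIso (((SiteCmp.RpushD g).commShiftIso k).app Z).symm)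

/-- Cohomology of `RΓ` vanishes where that of the derived direct image does. -/
theorem isZero_homology_rgammaA [QuasiCompact f] [QuasiSeparated f] [DCoh.HasRpush f] [HTor.HasRΓA f]
    (K : DCoh.D X) (hK : DCoh.IsQCohD K) (i : ℤ)
    (h : IsZero ((DerivedCategory.homologyFunctor (Spec (CommRingCat.of A)).Modules i).obj
      ((DCoh.Rpush f).obj K))) :
    IsZero ((DerivedCategory.homologyFunctor (ModuleCat.{u} A) i).obj ((HTor.RΓA f).obj K)) := by
  haveI : (tilde.functor (CommRingCat.of A)).Additive := Groth.Agent.TildeKFlat.additive_til (CommRingCat.of A)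
  haveI : PreservesColimitsOfSize.{0, 0} (tilde.functor (CommRingCat.of A)) :=
    (tilde.adjunction (R := CommRingCat.of A)).leftAdjoint_preservesColimits
  haveI : PreservesFiniteColimits (tilde.functor (CommRingCat.of A)) :=
    PreservesColimitsOfSize.preservesFiniteColimits _
  obtain ⟨t⟩ := nonempty_tildeD_rgammaA f K hK
  have h' := (h.of_iso ((DerivedCategory.homologyFunctor _ i).mapIso t)).of_iso
    ((TildeD.nu (tilde.functor (CommRingCat.of A)) i).app _).symm
  haveI : (tilde.functor (CommRingCat.of A)).Faithful :=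
    (tilde.fullyFaithfulFunctor (R := CommRingCat.of A)).faithful
  rw [IsZero.iff_id_eq_zero]
  exact (tilde.functor (CommRingCat.of A)).map_injective (h'.eq_of_src _ _)

/-- `RΓ` of a bounded above complex of quasi-coherent modules is `≤ b + N`. -/
theorem isLE_rgammaA [QuasiCompact f] [IsSeparated f] [HTor.HasRΓA f] (N : ℕ)
    (U : Fin (N + 1) → X.Opens) (hU : ∀ i, IsAffineOpen (U i)) (hcov : ⨆ i, U i = ⊤)
    (K : DCoh.D X) (hK : DCoh.IsQCohD K) (b : ℤ) (hb : K.IsLE b) :
    ((HTor.RΓA f).obj K).IsLE (b + N) := by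
  haveI := hasRpush' f
  haveI : EnoughInjectives X.Modules := inferInstance
  haveI : HasInjectiveResolutions X.Modules := inferInstance
  exact (DerivedCategory.isLE_iff _ _).2 fun i hi => isZero_homology_rgammaA f K hK i
    ((DerivedCategory.isLE_iff _ _).1
      (isLE_rpush_of_bound f N (isZero_rpush_of_cover f N U hU hcov) K b hK hb) i hi)

/-- `RΓ` is left exact. -/
theorem isGE_rgammaA [QuasiCompact f] [QuasiSeparated f] [HTor.HasRΓA f]
    (K : DCoh.D X) (hK : DCoh.IsQCohD K) (a : ℤ) [K.IsGE a] :
    ((HTor.RΓA f).obj K).IsGE a := by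
  haveI := hasRpush' f
  haveI := DCohMore.isGE_rpush f K a
  exact (DerivedCategory.isGE_iff _ _).2 fun i hi => isZero_homology_rgammaA f K hK i
    (DerivedCategory.isZero_of_isGE _ a i hi)

omit f in
theorem resClassFree : Groth.Agent.KFlat.ResClass (fun M : ModuleCat.{u} A => Module.Free A M) where
  iso e h := haveI := h; Module.Free.of_equiv e.toLinearEquiv
  zero {M} h := by
    haveI : Subsingleton M := ModuleCat.subsingleton_of_isZero h
    infer_instance
  biprod {M M'} hM hM' := by
    haveI := hM
    haveI := hM'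
    exact Module.Free.of_equiv (ModuleCat.biprodIsoProd M M').toLinearEquiv.symm
  sum Y hY := by
    classical
    haveI := hY
    exact Module.Free.of_equiv (ModuleCat.coprodIsoDirectSum Y).toLinearEquiv.symm
  cover M := ⟨ModuleCat.of A (M →₀ A), ModuleCat.ofHom (Finsupp.linearCombination A id),
    inferInstanceAs (Module.Free A (M →₀ A)), (ModuleCat.epi_iff_surjective _).2
      fun x => ⟨Finsupp.single x 1, by simp [Finsupp.linearCombination_single]⟩⟩

omit f in
/-- An object of `D(A)` which is `≤ n` is represented by a complex of free modules vanishing above `n`. -/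
theorem exists_free_representative {K : Dual.D A} {n : ℤ} [K.IsLE n] :
    ∃ L : DRing.Cx A, (∀ i, Module.Free A (L.X i)) ∧ DRing.VanishesAbove L n ∧
      Nonempty (DRing.toD L ≅ K) := by
  let G := DerivedCategory.Q.objPreimage K
  let e : DRing.toD G ≅ K := DerivedCategory.Q.objObjPreimageIso K
  haveI : G.IsLE n := (CochainComplex.isLE_iff _ _).2 fun i hi =>
    (HomologicalComplex.exactAt_iff_isZero_homology _ _).2
      (((DerivedCategory.isZero_of_isLE K n i hi).of_iso ((DerivedCategory.homologyFunctor _ i).mapIso e)).of_iso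
        ((DerivedCategory.homologyFunctorFactors _ i).app G).symm)
  haveI : IsIso (DerivedCategory.Q.map (G.ιTruncLE n)) := DRingLib.isIso_Q_map _ inferInstance
  obtain ⟨Z, hZ⟩ : ∃ Z : DRing.Cx A, IsZero Z := HasZeroObject.zero
  have hZX : ∀ i, IsZero (Z.X i) := fun i =>
    (HomologicalComplex.eval (ModuleCat.{u} A) (ComplexShape.up ℤ) i).map_isZero hZ
  obtain ⟨L, β, c, hc, -, hβ, hL⟩ := Groth.Agent.KFlat.exists_split_factor (resClassFree (A := A))
    (0 : Z ⟶ G.truncLE n) n (fun i _ => hZX i) fun i hi => CochainComplex.isZero_of_isStrictlyLE _ n i hi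
  haveI := DRingLib.isIso_Q_map c hc
  exact ⟨L, fun i => Groth.Agent.KFlat.SplitInj.source (resClassFree (A := A)).iso (resClassFree (A := A)).biprod
      (hβ i) ((resClassFree (A := A)).zero (hZX i)), hL,
    ⟨asIso (DerivedCategory.Q.map c) ≪≫ asIso (DerivedCategory.Q.map (G.ιTruncLE n)) ≪≫ e⟩⟩

omit f in
/-- Over a ring of global dimension `≤ d`, opcycles of a complex of projectives are projective `d` steps
below the range of its cohomology. -/
theorem hasProjectiveDimensionLT_opcycles (d : ℕ)
    (hA : ∀ M : ModuleCat.{u} A, HasProjectiveDimensionLT M (d + 1)) (L : DRing.Cx A)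
    (hproj : ∀ i, Module.Projective A (L.X i)) (a : ℤ) [L.IsGE a] :
    ∀ j : ℕ, j ≤ d → HasProjectiveDimensionLT (L.opcycles (a - j)) (d + 1 - j)
  | 0, _ => hA _
  | j + 1, hj => by
    let k : ℤ := a - ((j : ℤ) + 1)
    have hk : IsZero (L.homology k) := CochainComplex.isZero_of_isGE L a k (by omega)
    let S := ShortComplex.mk (L.fromOpcycles k (k + 1)) (L.pOpcycles (k + 1)) (by
      rw [← cancel_epi (L.pOpcycles k), L.p_fromOpcycles_assoc, comp_zero]
      exact L.d_pOpcycles _ _)
    haveI hmono : Mono S.f :=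
      Preadditive.mono_of_isZero_kernel' _ (L.homologyIsKernel k (k + 1) (by simp)) hk
    haveI : Epi S.g := inferInstanceAs (Epi (L.pOpcycles (k + 1)))
    have hex : S.Exact := S.exact_of_g_is_cokernel (Limits.isCokernelOfComp (f := L.fromOpcycles k (k + 1))
      (L.pOpcycles k) (L.d k (k + 1)) (L.opcyclesIsCokernel k (k + 1) (by simp)) S.zero
      (L.p_fromOpcycles k (k + 1)))
    have hS : S.ShortExact := { exact := hex }
    haveI := hproj (k + 1)
    haveI : Projective S.X₂ := (IsProjective.iff_projective _).1 (hproj (k + 1))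
    have h₂ : HasProjectiveDimensionLT S.X₂ (d - j) :=
      hasProjectiveDimensionLT_of_ge S.X₂ 1 (d - j) (by omega)
    have h₃ : HasProjectiveDimensionLT S.X₃ (d - j + 1) := by
      show HasProjectiveDimensionLT (L.opcycles (k + 1)) _
      rw [show k + 1 = a - (j : ℤ) by omega, show d - j + 1 = d + 1 - j by omega]
      exact hasProjectiveDimensionLT_opcycles d hA L hproj a j (by omega)
    have h₁ := hS.hasProjectiveDimensionLT_X₁ (d - j) h₂ h₃
    rw [show d + 1 - (j + 1) = d - j by omega, show a - ((j + 1 : ℕ) : ℤ) = k by omega]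
    exact h₁

omit f in
/-- Over a ring of global dimension `≤ d`, an object with cohomology in `[a, n]` is represented by a
complex of projectives in `[a - d, n]`. -/
theorem exists_proj_representative_bdd (d : ℕ) (hA : ∀ M : ModuleCat.{u} A, HasProjectiveDimensionLT M (d + 1))
    {K : Dual.D A} (a n : ℤ) [K.IsLE n] [K.IsGE a] :
    ∃ L : DRing.Cx A, (∀ i, Module.Projective A (L.X i)) ∧ DRing.VanishesOutside L (a - d) n ∧
      Nonempty (DRing.toD L ≅ K) := by
  obtain ⟨L, hfree, hvan, ⟨e⟩⟩ := exists_free_representative (K := K) (n := n)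
  haveI : L.IsGE a := (CochainComplex.isGE_iff _ _).2 fun i hi =>
    (HomologicalComplex.exactAt_iff_isZero_homology _ _).2
      (((DerivedCategory.isZero_of_isGE K a i hi).of_iso ((DerivedCategory.homologyFunctor _ i).mapIso e)).of_iso
        ((DerivedCategory.homologyFunctorFactors _ i).app L).symm)
  have hp : ∀ i, Module.Projective A (L.X i) := fun i => haveI := hfree i; inferInstance
  haveI : L.IsGE (a - d) := CochainComplex.isGE_of_ge L (a - d) a (by omega)
  haveI := DRingLib.isIso_Q_map (L.πTruncGE (a - d)) inferInstance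
  have hproj' : ∀ {M : ModuleCat.{u} A}, Projective M → Module.Projective A M := fun h =>
    (IsProjective.iff_projective _).2 h
  refine ⟨L.truncGE (a - d), fun i => ?_, fun i hi => ?_,
    ⟨(asIso (DerivedCategory.Q.map (L.πTruncGE (a - d)))).symm ≪≫ e⟩⟩
  · rcases lt_trichotomy i (a - d) with h | rfl | h
    · exact hproj' (IsZero.projective (CochainComplex.isZero_of_isStrictlyGE _ (a - d) i h))
    · haveI : HasProjectiveDimensionLT (L.opcycles (a - d)) 1 := by
        simpa using hasProjectiveDimensionLT_opcycles d hA L hp a d le_rfl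
      exact hproj' (Projective.of_iso (L.truncGEXIsoOpcycles (a - d)).symm
        (projective_iff_hasProjectiveDimensionLT_one.2 this))
    · haveI := (IsProjective.iff_projective _).1 (hp i)
      exact hproj' (Projective.of_iso (L.truncGEXIso (a - d) i h).symm inferInstance)
  · rcases hi with hi | hi
    · exact CochainComplex.isZero_of_isStrictlyGE _ (a - d) i hi
    · rcases lt_trichotomy i (a - d) with h | rfl | h
      · exact CochainComplex.isZero_of_isStrictlyGE _ (a - d) i h
      · refine IsZero.of_iso ?_ (L.truncGEXIsoOpcycles (a - d))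
        exact IsZero.of_epi (L.pOpcycles (a - d)) (hvan _ hi)
      · exact (hvan i hi).of_iso (L.truncGEXIso (a - d) i h)

end Groth.Agent.HTorCompute
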