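import Groth.Agent.DCohMore.BCTwistMain
import Groth.Agent.DCohMore.PerfHom
import Groth.Agent.DCohLib.FlatCoker
import Groth.Agent.PullbackMod.FibreLocus
import Groth.Agent.ModTensor.Basic
import Mathlib.Algebra.Homology.HomotopyCategory.DegreewiseSplit

/-!
# Base change for bounded above complexes of quasi-coherent modules flat over the base
-/

set_option autoImplicit false
set_option linter.style.haveILetI false
set_option linter.unusedSectionVars false
set_option backward.isDefEq.respectTransparency false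
set_option maxHeartbeats 1000000

universe u

open CategoryTheory Limits AlgebraicGeometry Pretriangulated

attribute [local instance] HasDerivedCategory.standard

noncomputable section

namespace Groth.Agent.HTorCompute

open Groth.Agent.DCohLib Groth.Agent.DCohMore Groth.Agent.DCohMore.BC

theorem isIso_swap {C : Type*} [Category C] {A A' B B' D E : C} {a : A ⟶ A'} {b : A' ⟶ B} {c : A ⟶ B'} {d : B' ⟶ B}
    {x : B ⟶ D} {y : D ⟶ E} (hsq : a ≫ b = c ≫ d) (_ : IsIso a) (_ : IsIso y) (h : IsIso (c ≫ d ≫ x ≫ y)) :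
    IsIso (b ≫ x) := by
  haveI : IsIso (a ≫ (b ≫ x) ≫ y) := by
    rw [Category.assoc, ← Category.assoc a, hsq, Category.assoc]
    exact h
  haveI := IsIso.of_isIso_comp_left a ((b ≫ x) ≫ y)
  exact IsIso.of_isIso_comp_right (b ≫ x) y

/-- The subcomplex of a degreewise trivially split sequence gives a triangle in the homotopy category. -/
theorem exists_triangle_of_iso_or_zero {C : Type*} [Category C] [Abelian C] {K E : CochainComplex C ℤ}
    (f : K ⟶ E) [∀ i, Mono (f.f i)] (h : ∀ i, IsIso (f.f i) ∨ IsZero (K.X i)) :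
    ∃ (Z : CochainComplex C ℤ) (g : E ⟶ Z)
      (δ : (HomotopyCategory.quotient C (ComplexShape.up ℤ)).obj Z ⟶
        ((HomotopyCategory.quotient C (ComplexShape.up ℤ)).obj K)⟦(1 : ℤ)⟧),
      Triangle.mk ((HomotopyCategory.quotient C (ComplexShape.up ℤ)).map f)
        ((HomotopyCategory.quotient C (ComplexShape.up ℤ)).map g) δ ∈ distTriang _ ∧
      (∀ i, IsIso (f.f i) → IsZero (Z.X i)) ∧ ∀ i, IsZero (K.X i) → IsIso (g.f i) := by
  classical
  haveI : Mono f := HomologicalComplex.mono_of_mono_f _ inferInstance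
  let T : ShortComplex (CochainComplex C ℤ) := ShortComplex.mk f (cokernel.π f) (cokernel.condition f)
  have hS : T.ShortExact := { exact := T.exact_of_g_is_cokernel (cokernelIsCokernel f) }
  have hev : ∀ j, (T.map (HomologicalComplex.eval C (ComplexShape.up ℤ) j)).ShortExact :=
    fun j => hS.map_of_exact _
  have hz : ∀ i, IsIso (f.f i) → IsZero (T.X₃.X i) := fun i hi => (hev i).isIso_f_iff.1 hi
  have hg : ∀ i, IsZero (K.X i) → IsIso (T.g.f i) := fun i hi => (hev i).isIso_g_iff.2 hi
  let σ : ∀ i, (T.map (HomologicalComplex.eval C (ComplexShape.up ℤ) i)).Splitting := fun i =>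
    if hi : IsIso (f.f i) then
      haveI := hi
      { r := inv (f.f i)
        s := 0
        f_r := IsIso.hom_inv_id (f.f i)
        s_g := (hz i hi).eq_of_src _ _
        id := by
          show (inv (f.f i) ≫ f.f i : E.X i ⟶ E.X i) + (T.g.f i ≫ (0 : T.X₃.X i ⟶ E.X i) : E.X i ⟶ E.X i) = 𝟙 (E.X i)
          rw [IsIso.inv_hom_id, comp_zero, add_zero] }
    else
      haveI := hg i ((h i).resolve_left hi)
      { r := 0
        s := inv (T.g.f i)
        f_r := ((h i).resolve_left hi).eq_of_src _ _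
        s_g := IsIso.inv_hom_id (T.g.f i)
        id := by
          show ((0 : E.X i ⟶ K.X i) ≫ f.f i : E.X i ⟶ E.X i) + (T.g.f i ≫ inv (T.g.f i) : E.X i ⟶ E.X i) = 𝟙 (E.X i)
          rw [IsIso.hom_inv_id, zero_comp, zero_add] }
  exact ⟨T.X₃, T.g, (CochainComplex.trianglehOfDegreewiseSplit T σ).mor₃,
    HomotopyCategory.distinguished_iff_iso_trianglehOfDegreewiseSplit _ |>.2 ⟨T, σ, ⟨Iso.refl _⟩⟩, hz, hg⟩

theorem isLE_lpull {X Y : Scheme.{u}} (f : X ⟶ Y) [DCoh.HasLpull f] (V : DCoh.D Y) (b : ℤ) [V.IsLE b] :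
    ((DCoh.Lpull f).obj V).IsLE b := by
  obtain ⟨K, hK, ⟨e⟩⟩ := V.exists_iso_Q_obj_of_isLE b
  haveI := hK
  obtain ⟨P, c, hc, hfl, hPb⟩ := exists_bdd_flat_resolution Y.sheaf K b
    fun n hn => K.isZero_of_isStrictlyLE b n hn
  let P' : CochainComplex Y.Modules ℤ := P
  let c' : P' ⟶ K := c
  haveI : QuasiIso c' := hc
  haveI : IsIso (DerivedCategory.Q.map c') := inferInstance
  have hP : DCoh.IsKFlat P' := isKFlat_of_flat_bddAbove P' b hPb fun n => (isFlat_iff _).2 (hfl n)
  haveI : ((pullCx f).obj P').IsStrictlyLE b :=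
    (CochainComplex.isStrictlyLE_iff _ _).2 fun n hn => (Scheme.Modules.pullback f).map_isZero (hPb n hn)
  haveI : (DerivedCategory.Q.obj ((pullCx f).obj P')).IsLE b := inferInstance
  exact DerivedCategory.TStructure.t.isLE_of_iso
    ((DCoh.Lpull f).mapIso (e ≪≫ (asIso (DerivedCategory.Q.map c')).symm) ≪≫ lpullIsoK f P' hP).symm b

theorem isZero_homology_of_isLE {X : Scheme.{u}} (K : DCoh.D X) (c i : ℤ) (h : K.IsLE c) (hi : c < i) :
    IsZero ((DerivedCategory.homologyFunctor X.Modules i).obj K) :=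
  DerivedCategory.isZero_of_isLE K c i hi

/-- `M ⊗ O = M`. -/
def tensUnitIso {X : Scheme.{u}} (M : X.Modules) :
    (DCoh.tensorRightMod M).obj (Coh.structureModule X) ≅ M :=
  ModTensor.tensComm X.sheaf _ _ ≪≫ (ModTensor.tensorUnitRight X.sheaf).app M

variable {X S X' S' : Scheme.{u}} {f : X ⟶ S} {g : S' ⟶ S} {g' : X' ⟶ X} {f' : X' ⟶ S'}
  [DCoh.HasRpush f] [DCoh.HasRpush g] [DCoh.HasRpush f'] [DCoh.HasRpush g'] [DCoh.HasLpull g] [DCoh.HasLpull g']

variable (adjg : DCoh.Lpull g ⊣ DCoh.Rpush g) (adjg' : DCoh.Lpull g' ⊣ DCoh.Rpush g')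
  (e : DCoh.Rpush g' ⋙ DCoh.Rpush f ≅ DCoh.Rpush f' ⋙ DCoh.Rpush g)

/-- The base change map from the derived to the termwise inverse image. -/
def tau : DerivedCategory.Qh ⋙ DCoh.Rpush f ⋙ DCoh.Lpull g ⟶ DCoh.pullKh g' ⋙ DCoh.Rpush f' :=
  Functor.whiskerLeft DerivedCategory.Qh (bc adjg adjg' e) ≫ (Functor.associator _ _ _).inv ≫
    Functor.whiskerRight (lpullCounit g') (DCoh.Rpush f')

theorem tau_app (K : HomotopyCategory X.Modules (ComplexShape.up ℤ)) :
    (tau adjg adjg' e).app K = (bc adjg adjg' e).app (DerivedCategory.Qh.obj K) ≫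
      (DCoh.Rpush f').map ((lpullCounit g').app K) := by
  simp only [tau, NatTrans.comp_app, Functor.whiskerLeft_app, Functor.whiskerRight_app,
    Functor.associator_inv_app, Category.id_comp]

theorem exTri_src : ExTri (DerivedCategory.Qh ⋙ DCoh.Rpush f ⋙ DCoh.Lpull g :
    HomotopyCategory X.Modules (ComplexShape.up ℤ) ⥤ DCoh.D S') :=
  (exTri_of_isTriangulated _).comp ((exTri_rpush f).comp (exTri_lpull g))

theorem exTri_tgt : ExTri (DCoh.pullKh g' ⋙ DCoh.Rpush f' :
    HomotopyCategory X.Modules (ComplexShape.up ℤ) ⥤ DCoh.D S') :=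
  ((exTri_of_isTriangulated ((Scheme.Modules.pullback g').mapHomotopyCategory (ComplexShape.up ℤ))).comp
    (exTri_of_isTriangulated DerivedCategory.Qh)).comp (exTri_rpush f')

variable (hsq : IsPullback g' f' f g) [QuasiCompact f] [QuasiSeparated f]

include hsq in
theorem isIso_tau_single (n : ℤ) (M : X.Modules) (hq : Coh.IsQCoh M) (hfl : FlatMod.IsFlatOver f M) :
    IsIso ((tau adjg adjg' e).app ((quotM X).obj ((HomologicalComplex.single X.Modules (ComplexShape.up ℤ) n).obj M))) := by
  haveI := hq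
  let M' := (Scheme.Modules.pullback g').obj M
  haveI := hasLTensorMod M
  haveI := hasLTensorMod M'
  let P := unitAt X n
  have hP : DCoh.IsKFlat P := isKFlat_unitAt n
  have hE : DCoh.IsQCohD (DerivedCategory.Q.obj P) := TildeD.isQCohD_of_terms _ fun i => by
    by_cases hi : i = n
    · subst hi
      haveI : Coh.IsQCoh (Coh.structureModule X) := inferInstance
      exact (SheafOfModules.isQuasicoherent X.ringCatSheaf).prop_of_iso
        (HomologicalComplex.singleObjXSelf _ _ _).symm this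
    · exact (PullbackMod.isQCoh_and_isFP_of_isFinLocFree _
        (isFinLocFree_of_isZero (HomologicalComplex.isZero_single_obj_X _ _ _ _ hi))).1
  have h := tbcp_qcqs f g g' f' hsq M M' hq hfl (PullbackMod.isQCoh_pullback g' M) adjg adjg' e
    (theta g' M) (good_theta g' M) _ hE
  haveI := isIso_tensNat_app M' _ (isKFlat_pullback g' hP)
  haveI := isIso_lpullNat_app_kFlat g' P hP
  haveI := isIso_tensNat_app M P hP
  have hth : (theta g' M).app (DerivedCategory.Q.obj P) = thetaP g' M P hP := by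
    haveI := quasiIso_resXπ P
    rw [theta_app_Q]
    simp only [thetaRes, NatTrans.comp_app, Functor.whiskerRight_app]
    show ((DCoh.LTensorMod M ⋙ DCoh.Lpull g').map ((resQ X).inv.app P)) ≫ thetaP g' M _ _ ≫
      (DCoh.Lpull g' ⋙ DCoh.LTensorMod M').map ((resQ X).hom.app P) = _
    have hn := thetaP_natural g' M (isKFlat_resX P) hP ((resXπ X).app P)
    rw [show (resQ X).hom.app P = DerivedCategory.Q.map ((resXπ X).app P) from rfl, Functor.comp_map,
      Functor.comp_map, ← hn, ← Functor.map_comp_assoc, ← Functor.map_comp,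
      show (resQ X).inv.app P ≫ DerivedCategory.Q.map ((resXπ X).app P) = 𝟙 _ from
        (resQ X).inv_hom_id_app P, CategoryTheory.Functor.map_id, CategoryTheory.Functor.map_id,
      Category.id_comp]
  rw [hth] at h
  simp only [thetaP, Functor.map_comp] at h
  let Z := (tensCx M).obj P
  let q := (DerivedCategory.quotientCompQhIso X.Modules).inv.app Z
  let a := (DCoh.Lpull g).map ((DCoh.Rpush f).map ((tensNat M).app P))
  have hnat : a ≫ (bc adjg adjg' e).app (DerivedCategory.Q.obj Z) =
      (bc adjg adjg' e).app ((DCoh.LTensorMod M).obj (DerivedCategory.Q.obj P)) ≫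
        (DCoh.Rpush f').map ((DCoh.Lpull g').map ((tensNat M).app P)) :=
    (bc adjg adjg' e).naturality ((tensNat M).app P)
  have h2 : IsIso ((bc adjg adjg' e).app (DerivedCategory.Q.obj Z) ≫ (DCoh.Rpush f').map ((lpullNat g').app Z)) := by
    refine isIso_swap hnat inferInstance ?_ h
    infer_instance
  have h3 : IsIso ((tau adjg adjg' e).app ((quotM X).obj Z)) := by
    let a₂ := (DCoh.Lpull g).map ((DCoh.Rpush f).map q)
    have hnat2 : a₂ ≫ (bc adjg adjg' e).app (DerivedCategory.Qh.obj ((quotM X).obj Z)) =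
        (bc adjg adjg' e).app (DerivedCategory.Q.obj Z) ≫ (DCoh.Rpush f').map ((DCoh.Lpull g').map q) :=
      (bc adjg adjg' e).naturality q
    simp only [lpullNat, NatTrans.comp_app, Functor.whiskerLeft_app, Functor.whiskerRight_app,
      Functor.associator_hom_app, Functor.associator_inv_app, Category.id_comp, Functor.map_comp] at h2
    rw [tau_app]
    refine isIso_swap hnat2 inferInstance ?_ h2
    infer_instance
  exact (NatTrans.isIso_app_iff_of_iso (tau adjg adjg' e) ((quotM X).mapIso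
    ((HomologicalComplex.singleMapHomologicalComplex (DCoh.tensorRightMod M) (ComplexShape.up ℤ) n).app _ ≪≫
      (HomologicalComplex.single X.Modules (ComplexShape.up ℤ) n).mapIso (tensUnitIso M)))).1 h3

/-- The condition on all shifts. -/
def Good' (K : HomotopyCategory X.Modules (ComplexShape.up ℤ)) : Prop :=
  ∀ k : ℤ, IsIso ((tau adjg adjg' e).app (K⟦k⟧))

theorem good'_middle (T : Triangle (HomotopyCategory X.Modules (ComplexShape.up ℤ))) (hT : T ∈ distTriang _)
    (h₁ : Good' adjg adjg' e T.obj₁) (h₃ : Good' adjg adjg' e T.obj₃) : Good' adjg adjg' e T.obj₂ := fun k => by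
  let T' := ((Triangle.shiftFunctor (HomotopyCategory X.Modules (ComplexShape.up ℤ)) k).obj T).invRotate
  have hT' : T' ∈ distTriang _ := inv_rot_of_distTriang _ (Triangle.shift_distinguished _ hT k)
  refine isIso_app₃ exTri_src exTri_tgt (tau adjg adjg' e) T' hT' ?_ (h₁ k) ?_ ?_
  · exact (NatTrans.isIso_app_iff_of_iso _ ((shiftFunctorAdd' _ k (-1) (k - 1) (by omega)).app T.obj₃)).1 (h₃ (k - 1))
  · exact (NatTrans.isIso_app_iff_of_iso _
      ((shiftFunctorCompIsoId (HomotopyCategory X.Modules (ComplexShape.up ℤ)) (-1) 1 (by omega)).app _)).2 (h₃ k)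
  · exact (NatTrans.isIso_app_iff_of_iso _ ((shiftFunctorAdd' _ k 1 (k + 1) rfl).app T.obj₁)).1 (h₁ (k + 1))

include hsq in
theorem good'_single (n : ℤ) (M : X.Modules) (hq : Coh.IsQCoh M) (hfl : FlatMod.IsFlatOver f M) :
    Good' adjg adjg' e ((quotM X).obj ((HomologicalComplex.single X.Modules (ComplexShape.up ℤ) n).obj M)) := fun k =>
  (NatTrans.isIso_app_iff_of_iso _ (((quotM X).commShiftIso k).symm.app _ ≪≫ (quotM X).mapIso
    (((CochainComplex.singleFunctors X.Modules).shiftIso k (n - k) n (by omega)).app M)).symm).1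
    (isIso_tau_single adjg adjg' e hsq (n - k) M hq hfl)

include hsq in
theorem good'_bounded : ∀ (d : ℕ) (E : CochainComplex X.Modules ℤ) (b : ℤ),
    (∀ i, (b < i ∨ i < b - d) → IsZero (E.X i)) → (∀ i, Coh.IsQCoh (E.X i)) →
    (∀ i, FlatMod.IsFlatOver f (E.X i)) → Good' adjg adjg' e ((quotM X).obj E) := by
  intro d
  induction d with
  | zero =>
    intro E b hb hq hfl
    let φ : (HomologicalComplex.single X.Modules (ComplexShape.up ℤ) b).obj (E.X b) ⟶ E :=
      HomologicalComplex.mkHomFromSingle (𝟙 (E.X b)) (fun i (hi : b + 1 = i) => (hb i (by omega)).eq_of_tgt _ _)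
    haveI : ∀ i, IsIso (φ.f i) := fun i => by
      rcases eq_or_ne i b with rfl | hi
      · rw [HomologicalComplex.mkHomFromSingle_f]
        infer_instance
      · exact ⟨0, (HomologicalComplex.isZero_single_obj_X _ _ _ _ hi).eq_of_src _ _,
          (hb i (by omega)).eq_of_src _ _⟩
    haveI := HomologicalComplex.Hom.isIso_of_components φ
    exact fun k => (NatTrans.isIso_app_iff_of_iso _
      ((shiftFunctor _ k).mapIso ((quotM X).mapIso (asIso φ)))).1 (good'_single adjg adjg' e hsq b _ (hq b) (hfl b) k)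
  | succ d ih =>
    intro E b hb hq hfl
    let φ : (HomologicalComplex.single X.Modules (ComplexShape.up ℤ) b).obj (E.X b) ⟶ E :=
      HomologicalComplex.mkHomFromSingle (𝟙 (E.X b)) (fun i (hi : b + 1 = i) => (hb i (by omega)).eq_of_tgt _ _)
    have hfb : IsIso (φ.f b) := by
      rw [HomologicalComplex.mkHomFromSingle_f]
      infer_instance
    haveI : ∀ j, Mono (φ.f j) := fun j => by
      rcases eq_or_ne j b with rfl | hj
      · infer_instance
      · exact ⟨fun a a' _ => (HomologicalComplex.isZero_single_obj_X (ComplexShape.up ℤ) _ _ _ hj).eq_of_tgt a a'⟩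
    obtain ⟨Z, g₀, δ, hT, hz, hg⟩ := exists_triangle_of_iso_or_zero φ fun i => by
      rcases eq_or_ne i b with rfl | hi
      · exact Or.inl hfb
      · exact Or.inr (HomologicalComplex.isZero_single_obj_X _ _ _ _ hi)
    have hZb : IsZero (Z.X b) := hz b hfb
    have hgi : ∀ i, i ≠ b → IsIso (g₀.f i) := fun i hi => hg i (HomologicalComplex.isZero_single_obj_X _ _ _ _ hi)
    refine good'_middle adjg adjg' e _ hT (good'_single adjg adjg' e hsq b _ (hq b) (hfl b))
      (ih Z (b - 1) (fun i hi => ?_) (fun i => ?_) fun i => ?_)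
    · rcases eq_or_ne i b with rfl | hib
      · exact hZb
      · haveI := hgi i hib
        exact (hb i (by omega)).of_iso (asIso (g₀.f i)).symm
    · rcases eq_or_ne i b with rfl | hib
      · exact (PullbackMod.isQCoh_and_isFP_of_isFinLocFree _ (isFinLocFree_of_isZero hZb)).1
      · haveI := hgi i hib
        exact (SheafOfModules.isQuasicoherent X.ringCatSheaf).prop_of_iso (asIso (g₀.f i)) (hq i)
    · rcases eq_or_ne i b with rfl | hib
      · exact isFlatOver_of_isZero f hZb
      · haveI := hgi i hib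
        exact isFlatOver_of_iso f (asIso (g₀.f i)) (hfl i)

include hsq in
theorem isIso_tau_bddAbove [CompactSpace S] [CompactSpace S'] (E : CochainComplex X.Modules ℤ) (b : ℤ)
    (hb : ∀ i, b < i → IsZero (E.X i)) (hq : ∀ i, Coh.IsQCoh (E.X i))
    (hfl : ∀ i, FlatMod.IsFlatOver f (E.X i)) :
    IsIso ((tau adjg adjg' e).app ((quotM X).obj E)) := by
  haveI : QuasiCompact f' := MorphismProperty.of_isPullback (P := @QuasiCompact) hsq inferInstance
  haveI : QuasiSeparated f' := MorphismProperty.of_isPullback (P := @QuasiSeparated) hsq inferInstance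
  obtain ⟨N₁, hN₁⟩ := exists_isLE_rpush_qcoh f
  obtain ⟨N₂, hN₂⟩ := exists_isLE_rpush_qcoh f'
  rw [DerivedCategory.isIso_iff]
  intro j
  let m : ℤ := j - N₁ - N₂ - 2
  let G := brutalGE E m
  obtain ⟨Z, g₀, δ, hT, hz, hg⟩ := exists_triangle_of_iso_or_zero (brutalGEι E m) fun i => by
    by_cases hi : m ≤ i
    · exact Or.inl (isIso_brutalGEι_f E m i hi)
    · exact Or.inr (isZero_brutalGE_X E m i (by omega))
  have hGb : ∀ i, (max b m < i ∨ i < max b m - (max b m - m).toNat) → IsZero (G.X i) := fun i hi => by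
    by_cases him : m ≤ i
    · haveI := isIso_brutalGEι_f E m i him
      exact (hb i (by omega)).of_iso (asIso ((brutalGEι E m).f i))
    · exact isZero_brutalGE_X E m i (by omega)
  have hGq : ∀ i, Coh.IsQCoh (G.X i) := fun i => by
    by_cases him : m ≤ i
    · haveI := isIso_brutalGEι_f E m i him
      exact (SheafOfModules.isQuasicoherent X.ringCatSheaf).prop_of_iso (asIso ((brutalGEι E m).f i)).symm (hq i)
    · exact (PullbackMod.isQCoh_and_isFP_of_isFinLocFree _
        (isFinLocFree_of_isZero (isZero_brutalGE_X E m i (by omega)))).1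
  have hGf : ∀ i, FlatMod.IsFlatOver f (G.X i) := fun i => by
    by_cases him : m ≤ i
    · haveI := isIso_brutalGEι_f E m i him
      exact isFlatOver_of_iso f (asIso ((brutalGEι E m).f i)).symm (hfl i)
    · exact isFlatOver_of_isZero f (isZero_brutalGE_X E m i (by omega))
  have hG : IsIso ((tau adjg adjg' e).app ((quotM X).obj G)) :=
    (NatTrans.isIso_app_iff_of_iso _ ((shiftFunctorZero _ ℤ).app _)).1
      (good'_bounded adjg adjg' e hsq _ G (max b m) hGb hGq hGf 0)
  have hZz : ∀ i, m ≤ i → IsZero (Z.X i) := fun i hi => hz i (isIso_brutalGEι_f E m i hi)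
  have hZq : ∀ i, Coh.IsQCoh (Z.X i) := fun i => by
    by_cases him : m ≤ i
    · exact (PullbackMod.isQCoh_and_isFP_of_isFinLocFree _ (isFinLocFree_of_isZero (hZz i him))).1
    · haveI := hg i (isZero_brutalGE_X E m i (by omega))
      exact (SheafOfModules.isQuasicoherent X.ringCatSheaf).prop_of_iso (asIso (g₀.f i)) (hq i)
  haveI : Z.IsStrictlyLE (m - 1) := (CochainComplex.isStrictlyLE_iff _ _).2 fun i hi => hZz i (by omega)
  haveI : ((pullCx g').obj Z).IsStrictlyLE (m - 1) := (CochainComplex.isStrictlyLE_iff _ _).2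
    fun i hi => (Scheme.Modules.pullback g').map_isZero (hZz i (by omega))
  let T := Triangle.mk ((quotM X).map (brutalGEι E m)) ((quotM X).map g₀) δ
  let F₁ := (DerivedCategory.Qh ⋙ DCoh.Rpush f ⋙ DCoh.Lpull g :
    HomotopyCategory X.Modules (ComplexShape.up ℤ) ⥤ DCoh.D S')
  let F₂ := (DCoh.pullKh g' ⋙ DCoh.Rpush f' : HomotopyCategory X.Modules (ComplexShape.up ℤ) ⥤ DCoh.D S')
  have hz₁ : ∀ i, j - 1 ≤ i → IsZero ((DerivedCategory.homologyFunctor _ i).obj (F₁.obj T.obj₃)) := fun i hi => by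
    have h1 := hN₁ _ (m - 1) (TildeD.isQCohD_of_terms Z hZq) inferInstance
    haveI : ((DCoh.Rpush f).obj (DerivedCategory.Qh.obj ((quotM X).obj Z))).IsLE (m - 1 + N₁) :=
      DerivedCategory.TStructure.t.isLE_of_iso
        ((DCoh.Rpush f).mapIso ((DerivedCategory.quotientCompQhIso X.Modules).app Z)).symm _
    exact isZero_homology_of_isLE _ (m - 1 + N₁) i
      (isLE_lpull g ((DCoh.Rpush f).obj (DerivedCategory.Qh.obj ((quotM X).obj Z))) _) (by omega)
  have hz₂ : ∀ i, j - 1 ≤ i → IsZero ((DerivedCategory.homologyFunctor _ i).obj (F₂.obj T.obj₃)) := fun i hi => by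
    have h1 := hN₂ _ (m - 1) (TildeD.isQCohD_of_terms ((pullCx g').obj Z) fun n =>
      haveI := hZq n
      PullbackMod.isQCoh_pullback g' _) inferInstance
    refine (isZero_homology_of_isLE _ _ i h1 (by omega)).of_iso
      ((DerivedCategory.homologyFunctor _ i).mapIso ((DCoh.Rpush f').mapIso ?_))
    exact DerivedCategory.Qh.mapIso (((Scheme.Modules.pullback g').mapHomotopyCategoryFactors _).app Z) ≪≫
      (DerivedCategory.quotientCompQhIso X'.Modules).app _
  have key : ∀ (F : HomotopyCategory X.Modules (ComplexShape.up ℤ) ⥤ DCoh.D S'), ExTri F →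
      (∀ i, j - 1 ≤ i → IsZero ((DerivedCategory.homologyFunctor _ i).obj (F.obj T.obj₃))) →
      IsIso ((DerivedCategory.homologyFunctor _ j).map (F.map T.mor₁)) := fun F hF hz' => by
    obtain ⟨c, hc⟩ := hF T hT
    haveI : Mono ((DerivedCategory.homologyFunctor _ j).map (F.map T.mor₁)) :=
      (DerivedCategory.HomologySequence.exact₁ _ hc (j - 1) j (by omega)).mono_g
        ((hz' (j - 1) le_rfl).eq_of_src _ _)
    haveI : Epi ((DerivedCategory.homologyFunctor _ j).map (F.map T.mor₁)) :=
      (DerivedCategory.HomologySequence.exact₂ _ hc j).epi_f ((hz' j (by omega)).eq_of_tgt _ _)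
    exact isIso_of_mono_of_epi _
  haveI := key F₁ exTri_src hz₁
  haveI := key F₂ exTri_tgt hz₂
  have hn := congrArg (DerivedCategory.homologyFunctor _ j).map ((tau adjg adjg' e).naturality T.mor₁)
  rw [Functor.map_comp, Functor.map_comp] at hn
  haveI h1 : IsIso ((tau adjg adjg' e).app T.obj₁) := hG
  haveI : IsIso ((DerivedCategory.homologyFunctor _ j).map ((tau adjg adjg' e).app T.obj₁) ≫
      (DerivedCategory.homologyFunctor _ j).map (F₂.map T.mor₁)) := IsIso.comp_isIso
  exact IsIso.of_isIso_fac_left (f := (DerivedCategory.homologyFunctor _ j).map (F₁.map T.mor₁)) hn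

omit adjg adjg' e in
/-- Base change along a cartesian square for complexes flat over the base. -/
theorem nonempty_baseChange_bddAbove (hsq : IsPullback g' f' f g) [CompactSpace S] [CompactSpace S']
    (E : CochainComplex X.Modules ℤ) (b : ℤ)
    (hb : ∀ i, b < i → IsZero (E.X i)) (hq : ∀ i, Coh.IsQCoh (E.X i))
    (hfl : ∀ i, FlatMod.IsFlatOver f (E.X i)) :
    Nonempty ((DCoh.Lpull g).obj ((DCoh.Rpush f).obj (DerivedCategory.Q.obj E)) ≅
      (DCoh.Rpush f').obj (DerivedCategory.Q.obj ((pullCx g').obj E))) := by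
  haveI := BC.hasRpush (g' ≫ f)
  haveI := BC.hasRpush (f' ≫ g)
  obtain ⟨c₁⟩ := nonempty_rpushCompIso g' f
  obtain ⟨c₂⟩ := nonempty_rpushCompIso f' g
  let e : DCoh.Rpush g' ⋙ DCoh.Rpush f ≅ DCoh.Rpush f' ⋙ DCoh.Rpush g :=
    c₁ ≪≫ eqToIso (by simp only [hsq.w]) ≪≫ c₂.symm
  haveI := isIso_tau_bddAbove (lpullRpushAdj g) (lpullRpushAdj g') e hsq E b hb hq hfl
  exact ⟨(DCoh.Lpull g).mapIso ((DCoh.Rpush f).mapIso ((DerivedCategory.quotientCompQhIso X.Modules).app E).symm) ≪≫
    asIso ((tau (lpullRpushAdj g) (lpullRpushAdj g') e).app ((quotM X).obj E)) ≪≫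
    (DCoh.Rpush f').mapIso (DerivedCategory.Qh.mapIso
      (((Scheme.Modules.pullback g').mapHomotopyCategoryFactors _).app E) ≪≫
        (DerivedCategory.quotientCompQhIso X'.Modules).app _)⟩

end Groth.Agent.HTorCompute
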