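import Groth.Agent.HTorCompute.BC
import Groth.Agent.DCohMore.DescFPPF
import Groth.Agent.DCohMore.RpushSum

/-!
# Base change for bounded above flat complexes over an arbitrary base
-/

set_option autoImplicit false
set_option linter.style.haveILetI false
set_option linter.unusedSectionVars false
set_option backward.isDefEq.respectTransparency false
set_option maxHeartbeats 1000000

universe u

open CategoryTheory Limits AlgebraicGeometry Pretriangulated

attribute [local instance] HasDerivedCategory.standard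

noncomputable section

namespace Groth.Agent.HTorCompute

open Groth.Agent.DCohLib Groth.Agent.DCohMore Groth.Agent.DCohMore.BC

/-- Restriction to an open is t-exact. -/
theorem isLE_restrictD {X U : Scheme.{u}} (j : U ⟶ X) [IsOpenImmersion j] (K : DCoh.D X) (c : ℤ) (hc : K.IsLE c) :
    ((DCoh.restrictD j).obj K).IsLE c :=
  (DerivedCategory.isLE_iff _ _).2 fun i hi =>
    ((Scheme.Modules.restrictFunctor j).map_isZero ((DerivedCategory.isLE_iff K c).1 hc i hi)).of_iso
      (restrictHDIso j K i)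

/-- Over an affine open of the base, derived direct images have bounded amplitude. -/
theorem exists_isLE_restrict_rpush {X S : Scheme.{u}} (f : X ⟶ S) [QuasiCompact f] [QuasiSeparated f]
    [DCoh.HasRpush f] (V : S.Opens) (hV : IsAffineOpen V) :
    ∃ N : ℕ, ∀ (K : DCoh.D X) (c : ℤ), DCoh.IsQCohD K → K.IsLE c →
      ((DCoh.restrictD V.ι).obj ((DCoh.Rpush f).obj K)).IsLE (c + N) := by
  haveI : IsAffine (V : Scheme.{u}) := hV
  haveI : DCoh.HasRpush (f ∣_ V) := Groth.Agent.KInj.hasRightDerivedFunctor (hres_modules _) _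
  obtain ⟨N, hN⟩ := exists_isLE_rpush_qcoh (f ∣_ V)
  obtain ⟨r⟩ := nonempty_restrictD_rpush f V
  refine ⟨N, fun K c hK hc => ?_⟩
  have h := hN ((DCoh.restrictD (f ⁻¹ᵁ V).ι).obj K) c (TildeD.isQCohD_restrict (f ⁻¹ᵁ V).ι _ hK)
    (isLE_restrictD _ K c hc)
  exact @Triangulated.TStructure.isLE_of_iso _ _ _ _ _ _ _ DerivedCategory.TStructure.t _ _ (r.app K).symm (c + N) h

/-- An object bounded above over an open has bounded above derived inverse image over its preimage. -/
theorem isZero_restrict_lpull {S S' : Scheme.{u}} (g : S' ⟶ S) [DCoh.HasLpull g] (V : S.Opens) (V' : S'.Opens)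
    (h : V' ≤ g ⁻¹ᵁ V) (W : DCoh.D S) (c : ℤ) (hW : ((DCoh.restrictD V.ι).obj W).IsLE c) (i : ℤ) (hi : c < i) :
    IsZero ((Scheme.Modules.restrictFunctor V'.ι).obj ((DerivedCategory.homologyFunctor S'.Modules i).obj
      ((DCoh.Lpull g).obj W))) := by
  haveI := hasLpull (g.resLE V V' h)
  haveI := hW
  obtain ⟨e⟩ := nonempty_lpull_chart g V'.ι V.ι (g.resLE V V' h) (Scheme.Hom.resLE_comp_ι g h) W
  haveI := isLE_lpull (g.resLE V V' h) ((DCoh.restrictD V.ι).obj W) c
  haveI := DerivedCategory.TStructure.t.isLE_of_iso e c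
  exact (DerivedCategory.isZero_of_isLE ((DCoh.restrictD V'.ι).obj ((DCoh.Lpull g).obj W)) c i hi).of_iso
    (restrictHDIso V'.ι _ i).symm

variable {X S X' S' : Scheme.{u}} {f : X ⟶ S} {g : S' ⟶ S} {g' : X' ⟶ X} {f' : X' ⟶ S'}
  [DCoh.HasRpush f] [DCoh.HasRpush g] [DCoh.HasRpush f'] [DCoh.HasRpush g'] [DCoh.HasLpull g] [DCoh.HasLpull g']

variable (adjg : DCoh.Lpull g ⊣ DCoh.Rpush g) (adjg' : DCoh.Lpull g' ⊣ DCoh.Rpush g')
  (e : DCoh.Rpush g' ⋙ DCoh.Rpush f ≅ DCoh.Rpush f' ⋙ DCoh.Rpush g)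

variable (adjg : DCoh.Lpull g ⊣ DCoh.Rpush g) (adjg' : DCoh.Lpull g' ⊣ DCoh.Rpush g')
  (e : DCoh.Rpush g' ⋙ DCoh.Rpush f ≅ DCoh.Rpush f' ⋙ DCoh.Rpush g)

variable (hsq : IsPullback g' f' f g) [QuasiCompact f] [QuasiSeparated f]

include hsq in
theorem isIso_tau_bddAbove' (E : CochainComplex X.Modules ℤ) (b : ℤ)
    (hb : ∀ i, b < i → IsZero (E.X i)) (hq : ∀ i, Coh.IsQCoh (E.X i))
    (hfl : ∀ i, FlatMod.IsFlatOver f (E.X i)) :
    IsIso ((tau adjg adjg' e).app ((quotM X).obj E)) := by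
  haveI : QuasiCompact f' := MorphismProperty.of_isPullback (P := @QuasiCompact) hsq inferInstance
  haveI : QuasiSeparated f' := MorphismProperty.of_isPullback (P := @QuasiSeparated) hsq inferInstance
  rw [DerivedCategory.isIso_iff]
  intro j
  refine DCohLib.isIso_of_local _ fun s' => ?_
  obtain ⟨_, ⟨V : S.Opens, hV, rfl⟩, hsV, -⟩ :=
    S.isBasis_affineOpens.exists_subset_of_mem_open (a := g s') (Set.mem_univ _) isOpen_univ
  obtain ⟨_, ⟨V' : S'.Opens, hV', rfl⟩, hsV', hle⟩ :=
    S'.isBasis_affineOpens.exists_subset_of_mem_open (show s' ∈ ((g ⁻¹ᵁ V : S'.Opens) : Set S') from hsV)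
      (g ⁻¹ᵁ V).2
  refine ⟨V', V'.ι, inferInstance, ⟨s', hsV'⟩, rfl, ?_⟩
  obtain ⟨N₁, hN₁⟩ := exists_isLE_restrict_rpush f V hV
  obtain ⟨N₂, hN₂⟩ := exists_isLE_restrict_rpush f' V' hV'
  let R := Scheme.Modules.restrictFunctor V'.ι
  let m : ℤ := j - N₁ - N₂ - 2
  let G := brutalGE E m
  obtain ⟨Z, g₀, δ, hT, hz, hg⟩ := exists_triangle_of_iso_or_zero (brutalGEι E m) fun i => by
    by_cases hi : m ≤ i
    · exact Or.inl (isIso_brutalGEι_f E m i hi)
    · exact Or.inr (isZero_brutalGE_X E m i (by omega))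
  have hGb : ∀ i, (max b m < i ∨ i < max b m - (max b m - m).toNat) → IsZero (G.X i) := fun i hi => by
    by_cases him : m ≤ i
    · haveI := isIso_brutalGEι_f E m i him
      exact (hb i (by omega)).of_iso (asIso ((brutalGEι E m).f i))
    · exact isZero_brutalGE_X E m i (by omega)
  have hGq : ∀ i, Coh.IsQCoh (G.X i) := fun i => by
    by_cases him : m ≤ i
    · haveI := isIso_brutalGEι_f E m i him
      exact (SheafOfModules.isQuasicoherent X.ringCatSheaf).prop_of_iso (asIso ((brutalGEι E m).f i)).symm (hq i)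
    · exact (PullbackMod.isQCoh_and_isFP_of_isFinLocFree _
        (isFinLocFree_of_isZero (isZero_brutalGE_X E m i (by omega)))).1
  have hGf : ∀ i, FlatMod.IsFlatOver f (G.X i) := fun i => by
    by_cases him : m ≤ i
    · haveI := isIso_brutalGEι_f E m i him
      exact isFlatOver_of_iso f (asIso ((brutalGEι E m).f i)).symm (hfl i)
    · exact isFlatOver_of_isZero f (isZero_brutalGE_X E m i (by omega))
  have hG : IsIso ((tau adjg adjg' e).app ((quotM X).obj G)) :=
    (NatTrans.isIso_app_iff_of_iso _ ((shiftFunctorZero _ ℤ).app _)).1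
      (good'_bounded adjg adjg' e hsq _ G (max b m) hGb hGq hGf 0)
  have hZz : ∀ i, m ≤ i → IsZero (Z.X i) := fun i hi => hz i (isIso_brutalGEι_f E m i hi)
  have hZq : ∀ i, Coh.IsQCoh (Z.X i) := fun i => by
    by_cases him : m ≤ i
    · exact (PullbackMod.isQCoh_and_isFP_of_isFinLocFree _ (isFinLocFree_of_isZero (hZz i him))).1
    · haveI := hg i (isZero_brutalGE_X E m i (by omega))
      exact (SheafOfModules.isQuasicoherent X.ringCatSheaf).prop_of_iso (asIso (g₀.f i)) (hq i)
  haveI : Z.IsStrictlyLE (m - 1) := (CochainComplex.isStrictlyLE_iff _ _).2 fun i hi => hZz i (by omega)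
  haveI : ((pullCx g').obj Z).IsStrictlyLE (m - 1) := (CochainComplex.isStrictlyLE_iff _ _).2
    fun i hi => (Scheme.Modules.pullback g').map_isZero (hZz i (by omega))
  let T := Triangle.mk ((quotM X).map (brutalGEι E m)) ((quotM X).map g₀) δ
  let F₁ := (DerivedCategory.Qh ⋙ DCoh.Rpush f ⋙ DCoh.Lpull g :
    HomotopyCategory X.Modules (ComplexShape.up ℤ) ⥤ DCoh.D S')
  let F₂ := (DCoh.pullKh g' ⋙ DCoh.Rpush f' : HomotopyCategory X.Modules (ComplexShape.up ℤ) ⥤ DCoh.D S')
  have hz₁ : ∀ i, j - 1 ≤ i → IsZero (R.obj ((DerivedCategory.homologyFunctor _ i).obj (F₁.obj T.obj₃))) :=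
    fun i hi => by
      haveI := hN₁ _ (m - 1) (TildeD.isQCohD_of_terms Z hZq) inferInstance
      haveI : ((DCoh.restrictD V.ι).obj ((DCoh.Rpush f).obj
          (DerivedCategory.Qh.obj ((quotM X).obj Z)))).IsLE (m - 1 + N₁) :=
        DerivedCategory.TStructure.t.isLE_of_iso ((DCoh.restrictD V.ι).mapIso
          ((DCoh.Rpush f).mapIso ((DerivedCategory.quotientCompQhIso X.Modules).app Z))).symm _
      exact isZero_restrict_lpull g V V' hle _ (m - 1 + N₁) this i (by omega)
  have hz₂ : ∀ i, j - 1 ≤ i → IsZero (R.obj ((DerivedCategory.homologyFunctor _ i).obj (F₂.obj T.obj₃))) :=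
    fun i hi => by
      have h1 := hN₂ _ (m - 1) (TildeD.isQCohD_of_terms ((pullCx g').obj Z) fun n =>
        haveI := hZq n
        PullbackMod.isQCoh_pullback g' _) inferInstance
      refine (((DerivedCategory.isLE_iff _ _).1 h1 i (by omega)).of_iso
        (restrictHDIso V'.ι _ i).symm).of_iso
        (R.mapIso ((DerivedCategory.homologyFunctor _ i).mapIso ((DCoh.Rpush f').mapIso ?_)))
      exact DerivedCategory.Qh.mapIso (((Scheme.Modules.pullback g').mapHomotopyCategoryFactors _).app Z) ≪≫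
        (DerivedCategory.quotientCompQhIso X'.Modules).app _
  have key : ∀ (F : HomotopyCategory X.Modules (ComplexShape.up ℤ) ⥤ DCoh.D S'), ExTri F →
      (∀ i, j - 1 ≤ i → IsZero (R.obj ((DerivedCategory.homologyFunctor _ i).obj (F.obj T.obj₃)))) →
      IsIso (R.map ((DerivedCategory.homologyFunctor _ j).map (F.map T.mor₁))) := fun F hF hz' => by
    obtain ⟨c, hc⟩ := hF T hT
    haveI : Mono (R.map ((DerivedCategory.homologyFunctor _ j).map (F.map T.mor₁))) :=
      ((DerivedCategory.HomologySequence.exact₁ _ hc (j - 1) j (by omega)).map R).mono_g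
        ((hz' (j - 1) le_rfl).eq_of_src _ _)
    haveI : Epi (R.map ((DerivedCategory.homologyFunctor _ j).map (F.map T.mor₁))) :=
      ((DerivedCategory.HomologySequence.exact₂ _ hc j).map R).epi_f ((hz' j (by omega)).eq_of_tgt _ _)
    exact isIso_of_mono_of_epi _
  haveI := key F₁ exTri_src hz₁
  haveI := key F₂ exTri_tgt hz₂
  have hn := congrArg (fun φ => R.map ((DerivedCategory.homologyFunctor _ j).map φ))
    ((tau adjg adjg' e).naturality T.mor₁)
  simp only [Functor.map_comp] at hn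
  haveI h1 : IsIso ((tau adjg adjg' e).app T.obj₁) := hG
  haveI : IsIso (R.map ((DerivedCategory.homologyFunctor _ j).map ((tau adjg adjg' e).app T.obj₁)) ≫
      R.map ((DerivedCategory.homologyFunctor _ j).map (F₂.map T.mor₁))) := IsIso.comp_isIso
  exact IsIso.of_isIso_fac_left
    (f := R.map ((DerivedCategory.homologyFunctor _ j).map (F₁.map T.mor₁))) hn


omit adjg adjg' e in
/-- Base change along a cartesian square for complexes flat over the base. -/
theorem nonempty_baseChange_bddAbove' (hsq : IsPullback g' f' f g)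
    (E : CochainComplex X.Modules ℤ) (b : ℤ)
    (hb : ∀ i, b < i → IsZero (E.X i)) (hq : ∀ i, Coh.IsQCoh (E.X i))
    (hfl : ∀ i, FlatMod.IsFlatOver f (E.X i)) :
    Nonempty ((DCoh.Lpull g).obj ((DCoh.Rpush f).obj (DerivedCategory.Q.obj E)) ≅
      (DCoh.Rpush f').obj (DerivedCategory.Q.obj ((pullCx g').obj E))) := by
  haveI := BC.hasRpush (g' ≫ f)
  haveI := BC.hasRpush (f' ≫ g)
  obtain ⟨c₁⟩ := nonempty_rpushCompIso g' f
  obtain ⟨c₂⟩ := nonempty_rpushCompIso f' g
  let e : DCoh.Rpush g' ⋙ DCoh.Rpush f ≅ DCoh.Rpush f' ⋙ DCoh.Rpush g :=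
    c₁ ≪≫ eqToIso (by simp only [hsq.w]) ≪≫ c₂.symm
  haveI := isIso_tau_bddAbove' (lpullRpushAdj g) (lpullRpushAdj g') e hsq E b hb hq hfl
  exact ⟨(DCoh.Lpull g).mapIso ((DCoh.Rpush f).mapIso ((DerivedCategory.quotientCompQhIso X.Modules).app E).symm) ≪≫
    asIso ((tau (lpullRpushAdj g) (lpullRpushAdj g') e).app ((quotM X).obj E)) ≪≫
    (DCoh.Rpush f').mapIso (DerivedCategory.Qh.mapIso
      (((Scheme.Modules.pullback g').mapHomotopyCategoryFactors _).app E) ≪≫
        (DerivedCategory.quotientCompQhIso X'.Modules).app _)⟩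

end Groth.Agent.HTorCompute
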