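import Groth.Agent.TildeD.Main
import Groth.Agent.TildeLpull.Adapted
import Groth.Agent.DCohLib.GammaPush
import Groth.Agent.DCohMore.RpushQC
import Groth.Prelude.Def_HTor

/-!
# `RΓ(X, -)` with values in `D(A)` is the derived direct image to `Spec A`
-/

set_option autoImplicit false
set_option linter.style.haveILetI false
set_option linter.unusedSectionVars false
set_option backward.isDefEq.respectTransparency false
set_option maxHeartbeats 1000000

universe u

open CategoryTheory Limits AlgebraicGeometry Opposite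

attribute [local instance] HasDerivedCategory.standard

noncomputable section

namespace Groth.Agent.HTorCompute

open Groth.Agent.DCohLib

variable {A : Type u} [CommRing A]

local notation "SA" => Spec (CommRingCat.of A)

instance additive_moduleSpecΓ : (moduleSpecΓFunctor (R := CommRingCat.of A)).Additive :=
  (tilde.adjunction (R := CommRingCat.of A)).right_adjoint_additive

instance preservesFiniteLimits_tilde' : PreservesFiniteLimits (tilde.functor (CommRingCat.of A)) :=
  TildeD.preservesFiniteLimits_tilde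

/-- Forgetting the module structure of global sections. -/
def forgetΓIso : moduleSpecΓFunctor (R := CommRingCat.of A) ⋙ forget₂ (ModuleCat.{u} A) AddCommGrpCat.{u} ≅
    DCoh.gammaAb (Spec (CommRingCat.of A)) :=
  NatIso.ofComponents (fun _ => Iso.refl _) fun _ => rfl

theorem quasiIso_moduleΓ_map {I J : CochainComplex (SA).Modules ℤ} (φ : I ⟶ J) [QuasiIso φ]
    (hI : WKInj I) (hJ : WKInj J) :
    QuasiIso (((moduleSpecΓFunctor (R := CommRingCat.of A)).mapHomologicalComplex (ComplexShape.up ℤ)).map φ) := by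
  refine (HomologicalComplex.quasiIso_map_iff_of_preservesHomology _
    (forget₂ (ModuleCat.{u} A) AddCommGrpCat.{u})).1 ?_
  exact (quasiIso_iff_of_arrow_mk_iso _ _ (((Functor.mapArrowFunctor _ _).mapIso
    (NatIso.mapHomologicalComplex (forgetΓIso (A := A)) (ComplexShape.up ℤ))).app (Arrow.mk φ))).2
    (quasiIso_gamma_map φ hI hJ)

variable (A) in
/-- Global sections, on the homotopy category. -/
abbrev secKh : HomotopyCategory (SA).Modules (ComplexShape.up ℤ) ⥤ Dual.D A :=
  (moduleSpecΓFunctor (R := CommRingCat.of A)).mapHomotopyCategory (ComplexShape.up ℤ) ⋙ DerivedCategory.Qh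

variable (A) in
/-- Derived global sections on `Spec A`. -/
def secD : DCoh.D (SA) ⥤ Dual.D A :=
  KInj.rightAdj (hres_modules (SA)) ⋙ secKh A

variable (A) in
/-- The unit of derived global sections on `Spec A`. -/
def secUnit : secKh A ⟶ DerivedCategory.Qh ⋙ secD A :=
  KInj.derivedUnit (hres_modules (SA)) (secKh A)

instance isRightDerived_secD :
    (secD A).IsRightDerivedFunctor (secUnit A) (HomotopyCategory.quasiIso (SA).Modules (ComplexShape.up ℤ)) :=
  KInj.isRightDerivedFunctor (hres_modules (SA)) (secKh A)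

theorem nonempty_tildeD_secD (W : DCoh.D (SA)) (hW : DCoh.IsQCohD W) :
    Nonempty ((DCoh.tildeD (CommRingCat.of A)).obj ((secD A).obj W) ≅ W) := by
  haveI : (tilde.functor (CommRingCat.of A)).Additive := Groth.Agent.TildeKFlat.additive_til (CommRingCat.of A)
  haveI : PreservesColimitsOfSize.{0, 0} (tilde.functor (CommRingCat.of A)) :=
    (tilde.adjunction (R := CommRingCat.of A)).leftAdjoint_preservesColimits
  haveI : PreservesFiniteColimits (tilde.functor (CommRingCat.of A)) :=
    PreservesColimitsOfSize.preservesFiniteColimits _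
  let W₁ := HomotopyCategory.quasiIso (ModuleCat.{u} A) (ComplexShape.up ℤ)
  let W₂ := HomotopyCategory.quasiIso (SA).Modules (ComplexShape.up ℤ)
  let lf := (tilde.functor (CommRingCat.of A)).mapDerivedCategoryFactorsh
  haveI := Functor.isLeftDerivedFunctor_of_inverts (W := W₁)
    (tilde.functor (CommRingCat.of A)).mapDerivedCategory lf
  haveI : ((tilde.functor (CommRingCat.of A)).mapDerivedCategory ⋙ secD A).IsLeftDerivedFunctor
      ((Functor.associator _ _ _).inv ≫ Functor.whiskerRight lf.hom (secD A)) W₁ :=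
    Functor.isLeftDerivedFunctor_of_inverts (W := W₁) _
      ((Functor.associator _ _ _).symm ≪≫ Functor.isoWhiskerRight lf (secD A))
  haveI : (secD A ⋙ (tilde.functor (CommRingCat.of A)).mapDerivedCategory).IsRightDerivedFunctor
      (Functor.whiskerRight (secUnit A) (tilde.functor (CommRingCat.of A)).mapDerivedCategory ≫
        (Functor.associator _ _ _).hom) W₂ :=
    KInj.isRightDerivedFunctor_of_isIso_h (hres_modules (SA)) _ _ fun I hI => by
      haveI := hI
      haveI := KInj.isIso_app_of_isKInjective (hres_modules (SA)) _ (secD A) (secUnit A) I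
      simp only [NatTrans.comp_app, Functor.associator_hom_app, Functor.whiskerRight_app]
      infer_instance
  let a : DCoh.tildeD (CommRingCat.of A) ⊣ secD A :=
    (KInj.homotopyAdjunction (tilde.adjunction (R := CommRingCat.of A))).derived W₁ W₂ lf.hom (secUnit A)
  obtain ⟨hfull, hfaith, hess⟩ := TildeD.main (CommRingCat.of A)
  haveI := hfull
  haveI := hfaith
  obtain ⟨M, ⟨e⟩⟩ := (hess W).1 hW
  haveI : IsIso a.unit := a.unit_isIso_of_L_fully_faithful
  exact ⟨(DCoh.tildeD _).mapIso ((secD A).mapIso e.symm ≪≫ (asIso (a.unit.app M)).symm) ≪≫ e⟩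

theorem isIso_secUnit_app_of_wkInj (W : CochainComplex (SA).Modules ℤ) (hW : WKInj W) :
    IsIso ((secUnit A).app ((quotM (SA)).obj W)) := by
  obtain ⟨J, φ, hJ, hφ⟩ := hres_modules (SA) W
  haveI := hJ
  haveI := hφ
  haveI := KInj.isIso_app_of_isKInjective (hres_modules (SA)) _ _ (secUnit A) J
  haveI : IsIso ((secKh A).map ((quotM (SA)).map φ)) :=
    Localization.inverts DerivedCategory.Qh (HomotopyCategory.quasiIso (ModuleCat.{u} A) (ComplexShape.up ℤ)) _
      ((HomotopyCategory.quotient_map_mem_quasiIso_iff _).2 ((HomologicalComplex.mem_quasiIso_iff _).2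
        (quasiIso_moduleΓ_map φ hW (wkInj_of_isKInjective J))))
  haveI : IsIso ((DerivedCategory.Qh ⋙ secD A).map ((quotM (SA)).map φ)) := by
    haveI : IsIso (DerivedCategory.Qh.map ((quotM (SA)).map φ)) :=
      Localization.inverts DerivedCategory.Qh (HomotopyCategory.quasiIso (SA).Modules (ComplexShape.up ℤ)) _
        ((HomotopyCategory.quotient_map_mem_quasiIso_iff _).2 ((HomologicalComplex.mem_quasiIso_iff _).2 hφ))
    exact inferInstanceAs (IsIso ((secD A).map (DerivedCategory.Qh.map ((quotM (SA)).map φ))))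
  have h := (secUnit A).naturality ((quotM (SA)).map φ)
  haveI : IsIso ((secUnit A).app ((quotM (SA)).obj W) ≫
      (DerivedCategory.Qh ⋙ secD A).map ((quotM (SA)).map φ)) := h ▸ inferInstance
  exact IsIso.of_isIso_comp_right _ ((DerivedCategory.Qh ⋙ secD A).map ((quotM (SA)).map φ))

variable {X : Scheme.{u}} (f : X ⟶ Spec (CommRingCat.of A))

theorem nonempty_rgammaA_rpush [DCoh.HasRpush f] [HTor.HasRΓA f] :
    Nonempty (DCoh.Rpush f ⋙ secD A ≅ HTor.RΓA f) := by
  let W := HomotopyCategory.quasiIso X.Modules (ComplexShape.up ℤ)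
  let P := (Scheme.Modules.pushforward f).mapHomotopyCategory (ComplexShape.up ℤ)
  let e : HTor.gammaAKh f ≅ P ⋙ secKh A :=
    Functor.isoWhiskerRight (NatIso.ofComponents
        (F := (HTor.globalSectionsA f).mapHomotopyCategory (ComplexShape.up ℤ))
        (G := P ⋙ (moduleSpecΓFunctor (R := CommRingCat.of A)).mapHomotopyCategory (ComplexShape.up ℤ))
        (fun K => (HomotopyCategory.quotient _ _).mapIso
        (HomologicalComplex.Hom.isoOfComponents (fun n => Iso.refl _) (fun _ _ _ =>
          (Category.id_comp _).trans (Category.comp_id _).symm) :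
          ((HTor.globalSectionsA f).mapHomologicalComplex (ComplexShape.up ℤ)).obj K.as ≅
            ((moduleSpecΓFunctor (R := CommRingCat.of A)).mapHomologicalComplex (ComplexShape.up ℤ)).obj
              (((Scheme.Modules.pushforward f).mapHomologicalComplex (ComplexShape.up ℤ)).obj K.as)))
      fun {K L} φ => by
        obtain ⟨φ, rfl⟩ := (quotM X).map_surjective φ
        refine ((HomotopyCategory.quotient (ModuleCat.{u} A) (ComplexShape.up ℤ)).map_comp _ _).symm.trans
          (Eq.trans ?_ ((HomotopyCategory.quotient (ModuleCat.{u} A) (ComplexShape.up ℤ)).map_comp _ _))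
        congr 1)
      DerivedCategory.Qh ≪≫ Functor.associator _ _ _
  let α : HTor.gammaAKh f ⟶ DerivedCategory.Qh ⋙ DCoh.Rpush f ⋙ secD A :=
    e.hom ≫ Functor.whiskerLeft P (secUnit A) ≫ (Functor.associator _ _ _).inv ≫
      Functor.whiskerRight (rpushUnit f) (secD A) ≫ (Functor.associator _ _ _).hom
  haveI : (DCoh.Rpush f ⋙ secD A).IsRightDerivedFunctor α W :=
    Groth.Agent.KInj.isRightDerivedFunctor_of_isIso_h (hres_modules X) _ _ fun I hI => by
      haveI := hI
      haveI := isIso_rpushUnit_app f I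
      haveI : IsIso ((secUnit A).app (P.obj ((quotM X).obj I))) :=
        isIso_secUnit_app_of_wkInj _ (wkInj_push f I)
      simp only [α, NatTrans.comp_app, Functor.associator_hom_app, Functor.associator_inv_app,
        Functor.whiskerRight_app, Functor.whiskerLeft_app]
      infer_instance
  exact ⟨Functor.rightDerivedUnique _ _ α ((HTor.gammaAKh f).totalRightDerivedUnit DerivedCategory.Qh W) W⟩

/-- `RΓ(X, K)~` is the derived direct image. -/
theorem nonempty_tildeD_rgammaA [QuasiCompact f] [QuasiSeparated f] [DCoh.HasRpush f] [HTor.HasRΓA f]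
    (K : DCoh.D X) (hK : DCoh.IsQCohD K) :
    Nonempty ((DCoh.tildeD (CommRingCat.of A)).obj ((HTor.RΓA f).obj K) ≅ (DCoh.Rpush f).obj K) := by
  obtain ⟨e⟩ := nonempty_rgammaA_rpush f
  obtain ⟨t⟩ := nonempty_tildeD_secD _ (DCohMore.isQCohD_rpush f K hK)
  exact ⟨(DCoh.tildeD _).mapIso (e.app K).symm ≪≫ t⟩

omit f in
theorem hasRpush' {Y : Scheme.{u}} (g : X ⟶ Y) : DCoh.HasRpush g :=
  Groth.Agent.KInj.hasRightDerivedFunctor (hres_modules _) _

theorem computes_iff [QuasiCompact f] [QuasiSeparated f] [DCoh.HasRpush f] [HTor.HasRΓA f]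
    (L : DRing.Cx A) (K : DCoh.D X) (hK : DCoh.IsQCohD K) :
    HTor.Computes f L K ↔
      Nonempty ((DCoh.tildeD (CommRingCat.of A)).obj (DRing.toD L) ≅ (DCoh.Rpush f).obj K) := by
  obtain ⟨t⟩ := nonempty_tildeD_rgammaA f K hK
  obtain ⟨hfull, hfaith, -⟩ := TildeD.main (CommRingCat.of A)
  haveI := hfull
  haveI := hfaith
  exact ⟨fun ⟨e⟩ => ⟨(DCoh.tildeD _).mapIso e ≪≫ t⟩,
    fun ⟨e⟩ => ⟨(DCoh.tildeD (CommRingCat.of A)).preimageIso (e ≪≫ t.symm)⟩⟩

end Groth.Agent.HTorCompute
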