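import Groth.Agent.DCohMore.FlatOverTensor
import Groth.Agent.KFlat.ModSite
import Groth.Agent.KFlat.QuasiIso
import Groth.Agent.DCohLib.TensorMod
import Groth.Agent.ModTensor.Basic

/-!
# Tensoring bounded above complexes flat over the base with inverse images
-/

set_option autoImplicit false
set_option linter.style.haveILetI false
set_option linter.unusedSectionVars false
set_option backward.isDefEq.respectTransparency false
set_option maxHeartbeats 1000000

universe u

open CategoryTheory Limits AlgebraicGeometry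

noncomputable section

namespace Groth.Agent.HTorCompute

open Groth.Agent.KFlat

variable {X S : Scheme.{u}} (f : X ⟶ S)

/-- `(N, M) ↦ f^* N ⊗ M`. -/
abbrev pullTens : S.Modules ⥤ X.Modules ⥤ X.Modules :=
  Scheme.Modules.pullback f ⋙ DCoh.tensorBi

instance additive_pullTens_obj (N : S.Modules) : ((pullTens f).obj N).Additive :=
  inferInstanceAs ((DCoh.tensorBi (X := X)).obj ((Scheme.Modules.pullback f).obj N)).Additive

instance hasMapBifunctor_pullTens (K₁ : CochainComplex S.Modules ℤ) (K₂ : CochainComplex X.Modules ℤ) :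
    CochainComplex.HasMapBifunctor K₁ K₂ (pullTens f) := fun _ => inferInstance

instance preservesColimits_pullTens_obj (N : S.Modules) :
    PreservesColimitsOfShape ℕ ((pullTens f).obj N) :=
  inferInstanceAs (PreservesColimitsOfShape ℕ ((ModSite.tensorBi X.sheaf).obj ((Scheme.Modules.pullback f).obj N)))

theorem goodObj_pullTens (M : X.Modules) (hM : FlatMod.IsFlatOver f M) : GoodObj (pullTens f) M :=
  fun T hT =>
    haveI : (Scheme.Modules.pullback f ⋙ (ModSite.tensorBi X.sheaf).obj M).PreservesZeroMorphisms :=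
      inferInstanceAs (Scheme.Modules.pullback f ⋙ (DCoh.tensorBi (X := X)).obj M).PreservesZeroMorphisms
    ShortComplex.exact_of_iso
    (T.mapNatIso (Functor.isoWhiskerLeft (Scheme.Modules.pullback f)
      (ModTensor.tensorSymm X.sheaf M).symm))
    (DCohMore.exact_tensor_pullback f M hM T hT)

instance hasColimitsOfShape_nat' : HasColimitsOfShape ℕ X.Modules :=
  inferInstanceAs (HasColimitsOfShape ℕ (ModSite.Mod X.sheaf))

instance hasExactColimitsOfShape_nat' : HasExactColimitsOfShape ℕ X.Modules :=
  inferInstanceAs (HasExactColimitsOfShape ℕ (ModSite.Mod X.sheaf))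

instance ab4OfSize_modules : AB4OfSize.{0} X.Modules :=
  inferInstanceAs (AB4OfSize.{0} (ModSite.Mod X.sheaf))

theorem isKFlatFor_pullTens (P : CochainComplex X.Modules ℤ) (b : ℤ) (hb : ∀ n, b < n → IsZero (P.X n))
    (hP : ∀ n, FlatMod.IsFlatOver f (P.X n)) : IsKFlatFor (pullTens f) P :=
  isKFlatFor_of_bddAbove (pullTens f) P b hb fun n => goodObj_pullTens f _ (hP n)

theorem acyclic_tensor_pullCx (L : CochainComplex S.Modules ℤ) (hL : L.Acyclic)
    (P : CochainComplex X.Modules ℤ) (b : ℤ) (hb : ∀ n, b < n → IsZero (P.X n))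
    (hP : ∀ n, FlatMod.IsFlatOver f (P.X n)) :
    ((DCoh.tensorCx.obj (((Scheme.Modules.pullback f).mapHomologicalComplex (ComplexShape.up ℤ)).obj L)).obj P).Acyclic := by
  exact isKFlatFor_pullTens f P b hb hP L hL

/-- Inverse images of quasi-isomorphisms stay quasi-isomorphisms after tensoring. -/
theorem quasiIso_tensor_pullCx_map {L L' : CochainComplex S.Modules ℤ} (φ : L ⟶ L') [QuasiIso φ]
    (P : CochainComplex X.Modules ℤ) (b : ℤ) (hb : ∀ n, b < n → IsZero (P.X n))
    (hP : ∀ n, FlatMod.IsFlatOver f (P.X n)) :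
    QuasiIso ((DCoh.tensorCx.map (((Scheme.Modules.pullback f).mapHomologicalComplex (ComplexShape.up ℤ)).map φ)).app P) := by
  exact quasiIso_totR_map (pullTens f) (isKFlatFor_pullTens f P b hb hP) φ

end Groth.Agent.HTorCompute
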