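import Groth.Agent.HTorCompute.FlatTensor
import Groth.Agent.DCohMore.ProjQC
import Groth.Agent.DCohLib.TensorLinv
import Groth.Agent.DCohLib.LpullTensor
import Groth.Agent.DCohLib.LTensorCongr
import Groth.Agent.DCohLib.ExtTensor
import Groth.Agent.TildeD.QCohPull
import Groth.Agent.BCLib.TensorQCoh
import Groth.Agent.DCohLib.HDCoprod

/-!
# Projection formula for complexes flat over the base
-/

set_option autoImplicit false
set_option linter.style.haveILetI false
set_option linter.unusedSectionVars false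
set_option backward.isDefEq.respectTransparency false
set_option maxHeartbeats 1000000

universe u

open CategoryTheory Limits AlgebraicGeometry

attribute [local instance] HasDerivedCategory.standard

noncomputable section

namespace Groth.Agent.HTorCompute

open Groth.Agent.DCohLib Groth.Agent.DCohMore

variable {X Y : Scheme.{u}} (f : X ⟶ Y) [QuasiCompact f] [QuasiSeparated f] [DCoh.HasRpush f]

/-- The projection formula with the inverse image of a K-flat complex. -/
theorem nonempty_proj_kFlat (P : CochainComplex X.Modules ℤ) (hP : DCoh.IsQCohD (DerivedCategory.Q.obj P))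
    (M : CochainComplex Y.Modules ℤ) (hM : DCoh.IsKFlat M) (hMq : DCoh.IsQCohD (DerivedCategory.Q.obj M)) :
    Nonempty ((DCoh.LTensorCx M).obj ((DCoh.Rpush f).obj (DerivedCategory.Q.obj P)) ≅
      (DCoh.Rpush f).obj (DerivedCategory.Q.obj ((DCoh.tensorCx.obj ((DCohLib.pullCx f).obj M)).obj P))) := by
  obtain ⟨I, φ, hI, hφ⟩ := hres_modules X P
  haveI := hI
  haveI := hφ
  haveI : IsIso (DerivedCategory.Q.map φ) := inferInstance
  haveI := isIso_projTau f I (TildeD.isQCohD_of_iso (asIso (DerivedCategory.Q.map φ)) hP) M hM hMq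
  obtain ⟨a⟩ := nonempty_projection_of_isIso f I M M (Iso.refl _) hM ((DCohLib.pullCx f).obj M) (Iso.refl _)
  obtain ⟨t⟩ := nonempty_symCxSch P ((DCohLib.pullCx f).obj M)
  exact ⟨(DCoh.LTensorCx M).mapIso ((DCoh.Rpush f).mapIso (asIso (DerivedCategory.Q.map φ))) ≪≫ a ≪≫
    (DCoh.Rpush f).mapIso ((DCoh.LTensorCx ((DCohLib.pullCx f).obj M)).mapIso (asIso (DerivedCategory.Q.map φ)).symm ≪≫
      (lTensorQIso _ (isKFlat_pullback f hM)).app P ≪≫ DerivedCategory.Q.mapIso t)⟩

/-- The projection formula with complexes flat over the base. -/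
theorem nonempty_proj_flat (K : CochainComplex Y.Modules ℤ) (hKq : DCoh.IsQCohD (DerivedCategory.Q.obj K))
    (P : CochainComplex X.Modules ℤ) (b : ℤ) (hb : ∀ n, b < n → IsZero (P.X n))
    (hq : DCoh.IsQCohD (DerivedCategory.Q.obj P)) (hfl : ∀ n, FlatMod.IsFlatOver f (P.X n)) :
    Nonempty ((DCoh.LTensorCx K).obj ((DCoh.Rpush f).obj (DerivedCategory.Q.obj P)) ≅
      (DCoh.Rpush f).obj (DerivedCategory.Q.obj ((DCoh.tensorCx.obj ((DCohLib.pullCx f).obj K)).obj P))) := by
  let M := (resX Y).obj K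
  haveI := quasiIso_resXπ K
  haveI : IsIso (DerivedCategory.Q.map ((resXπ Y).app K)) := inferInstance
  let eM : DerivedCategory.Q.obj M ≅ DerivedCategory.Q.obj K := asIso (DerivedCategory.Q.map ((resXπ Y).app K))
  obtain ⟨e₁⟩ := nonempty_lTensor_of_iso (E := K) (E' := M) eM
  obtain ⟨a⟩ := nonempty_proj_kFlat f P hq M (isKFlat_resX K) (TildeD.isQCohD_of_iso eM.symm hKq)
  haveI := quasiIso_tensor_pullCx_map f ((resXπ Y).app K) P b hb hfl
  haveI : IsIso (DerivedCategory.Q.map ((DCoh.tensorCx.map ((DCohLib.pullCx f).map ((resXπ Y).app K))).app P)) :=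
    inferInstance
  exact ⟨e₁.symm.app _ ≪≫ a ≪≫ (DCoh.Rpush f).mapIso
    (asIso (DerivedCategory.Q.map ((DCoh.tensorCx.map ((DCohLib.pullCx f).map ((resXπ Y).app K))).app P)))⟩

theorem isQCoh_sigma₀ {Z : Scheme.{u}} {ι : Type} (f : ι → Z.Modules) [HasCoproduct f] (h : ∀ i, Coh.IsQCoh (f i)) :
    Coh.IsQCoh (∐ f) :=
  isQCoh_of_iso' (Sigma.whiskerEquiv (g := f) Equiv.ulift.{u} fun _ => Iso.refl _)
    (isQCoh_sigma_modules (fun i : ULift.{u} ι => f i.down) fun i => h i.down)

theorem isQCoh_tensorCx_X {Z : Scheme.{u}} (K L : CochainComplex Z.Modules ℤ) (hK : ∀ i, Coh.IsQCoh (K.X i))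
    (hL : ∀ i, Coh.IsQCoh (L.X i)) (n : ℤ) : Coh.IsQCoh (((DCoh.tensorCx.obj K).obj L).X n) :=
  isQCoh_sigma₀ _ fun ij =>
    haveI := hK ij.1.1
    haveI := hL ij.1.2
    BCLib.isQCoh_tmod (K.X ij.1.1) (L.X ij.1.2)

theorem isQCoh_pullCx_X {Z W : Scheme.{u}} (h : Z ⟶ W) (K : CochainComplex W.Modules ℤ)
    (hK : ∀ i, Coh.IsQCoh (K.X i)) (n : ℤ) : Coh.IsQCoh (((DCohLib.pullCx h).obj K).X n) :=
  haveI := hK n
  PullbackMod.isQCoh_pullback h _

end Groth.Agent.HTorCompute
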