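import Groth.Agent.HTorCompute.BCLocal
import Groth.Agent.HTorCompute.Proj

/-!
# The Künneth formula for complexes flat over the base
-/

set_option autoImplicit false
set_option linter.style.haveILetI false
set_option linter.unusedSectionVars false
set_option backward.isDefEq.respectTransparency false
set_option maxHeartbeats 1000000

universe u

open CategoryTheory Limits AlgebraicGeometry

attribute [local instance] HasDerivedCategory.standard

noncomputable section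

namespace Groth.Agent.HTorCompute

open Groth.Agent.DCohLib Groth.Agent.DCohMore

variable {X₁ X₂ S : Scheme.{u}} (f₁ : X₁ ⟶ S) (f₂ : X₂ ⟶ S)
  [QuasiCompact f₁] [QuasiSeparated f₁] [QuasiCompact f₂] [QuasiSeparated f₂]
  [DCoh.HasRpush f₁] [DCoh.HasRpush f₂] [DCoh.HasRpush (pullback.fst f₁ f₂ ≫ f₁)]

/-- The Künneth formula in derived form. -/
theorem nonempty_kunneth (P₁ : CochainComplex X₁.Modules ℤ) (P₂ : CochainComplex X₂.Modules ℤ)
    (hq₁ : ∀ i, Coh.IsQCoh (P₁.X i)) (hq₂ : ∀ i, Coh.IsQCoh (P₂.X i)) (b₁ : ℤ)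
    (hb₁ : ∀ i, b₁ < i → IsZero (P₁.X i)) (hfl : ∀ i, FlatMod.IsFlatOver f₁ (P₁.X i))
    (E₂ : CochainComplex S.Modules ℤ)
    (hE₂ : DerivedCategory.Q.obj E₂ ≅ (DCoh.Rpush f₂).obj (DerivedCategory.Q.obj P₂))
    [DCoh.HasLTensorCx E₂] :
    Nonempty ((DCoh.Rpush (pullback.fst f₁ f₂ ≫ f₁)).obj
        (DerivedCategory.Q.obj (HTor.extTensorCx f₁ f₂ P₁ P₂)) ≅
      (DCoh.LTensorCx E₂).obj ((DCoh.Rpush f₁).obj (DerivedCategory.Q.obj P₁))) := by
  let p := pullback.fst f₁ f₂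
  let q := pullback.snd f₁ f₂
  haveI : QuasiCompact q := inferInstanceAs (QuasiCompact (pullback.snd f₁ f₂))
  haveI : QuasiSeparated q := inferInstanceAs (QuasiSeparated (pullback.snd f₁ f₂))
  haveI := BC.hasRpush q
  haveI := BC.hasRpush p
  haveI := BC.hasRpush (q ≫ f₂)
  haveI := hasLpull f₂
  haveI := hasLpull p
  let P₁' := (DCohLib.pullCx p).obj P₁
  let P₂' := (DCohLib.pullCx q).obj P₂
  have hq₁' : ∀ i, Coh.IsQCoh (P₁'.X i) := isQCoh_pullCx_X p P₁ hq₁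
  have hfl' : ∀ i, FlatMod.IsFlatOver q (P₁'.X i) := fun i x => by
    haveI := hq₁ i
    exact PullbackMod.isFlatOverAt_baseChange (IsPullback.of_hasPullback f₁ f₂) (P₁.X i) x (hfl i _)
  have hb₁' : ∀ i, b₁ < i → IsZero (P₁'.X i) := fun i hi =>
    (Scheme.Modules.pullback p).map_isZero (hb₁ i hi)
  -- composition
  have key : ∀ (h : pullback f₁ f₂ ⟶ S) (_ : DCoh.HasRpush h), q ≫ f₂ = h →
      Nonempty (DCoh.Rpush q ⋙ DCoh.Rpush f₂ ≅ DCoh.Rpush h) := by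
    rintro h _ rfl
    exact nonempty_rpushCompIso q f₂
  obtain ⟨c⟩ := key (pullback.fst f₁ f₂ ≫ f₁) inferInstance pullback.condition.symm
  -- projection formula along `q`
  obtain ⟨a⟩ := nonempty_proj_flat q P₂ (TildeD.isQCohD_of_terms P₂ hq₂) P₁' b₁ hb₁'
    (TildeD.isQCohD_of_terms P₁' hq₁') hfl'
  obtain ⟨s⟩ := nonempty_symCxSch P₁' P₂'
  -- base change
  obtain ⟨bc⟩ := nonempty_baseChange_bddAbove' (IsPullback.of_hasPullback f₁ f₂) P₁ b₁ hb₁ hq₁ hfl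
  let M := (resX S).obj (DerivedCategory.Q.objPreimage ((DCoh.Rpush f₁).obj (DerivedCategory.Q.obj P₁)))
  let eM : DerivedCategory.Q.obj M ≅ (DCoh.Rpush f₁).obj (DerivedCategory.Q.obj P₁) := resXIso _
  have hM : DCoh.IsKFlat M := isKFlat_resX _
  have hMq : DCoh.IsQCohD (DerivedCategory.Q.obj M) :=
    TildeD.isQCohD_of_iso eM.symm (isQCohD_rpush f₁ _ (TildeD.isQCohD_of_terms P₁ hq₁))
  let eB : DerivedCategory.Q.obj ((DCohLib.pullCx f₂).obj M) ≅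
      (DCoh.Rpush q).obj (DerivedCategory.Q.obj P₁') :=
    (lpullIsoK f₂ M hM).symm ≪≫ (DCoh.Lpull f₂).mapIso eM ≪≫ bc
  -- projection formula along `f₂`
  obtain ⟨a₂⟩ := nonempty_proj_kFlat f₂ P₂ (TildeD.isQCohD_of_terms P₂ hq₂) M hM hMq
  obtain ⟨t⟩ := nonempty_symCxSch E₂ M
  exact ⟨(c.app _).symm ≪≫
    (DCoh.Rpush f₂).mapIso ((DCoh.Rpush q).mapIso (DerivedCategory.Q.mapIso s) ≪≫ a.symm ≪≫
      (DCoh.LTensorCx P₂).mapIso eB.symm ≪≫
      lTensorIso P₂ ((DCohLib.pullCx f₂).obj M) (isKFlat_pullback f₂ hM)) ≪≫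
    a₂.symm ≪≫ (DCoh.LTensorCx M).mapIso hE₂.symm ≪≫ (lTensorQIso M hM).app E₂ ≪≫
    DerivedCategory.Q.mapIso t ≪≫ (lTensorIso E₂ M hM).symm ≪≫ (DCoh.LTensorCx E₂).mapIso eM⟩

end Groth.Agent.HTorCompute
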