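import Groth.Agent.HTorCompute.Conv
import Groth.Agent.TildeLpull.Main
import Groth.Agent.DCohLib.LpullTensor
import Groth.Agent.DCohLib.TensorMod

/-!
# Tilde of complexes of projective modules
-/

set_option autoImplicit false
set_option linter.style.haveILetI false
set_option backward.isDefEq.respectTransparency false
set_option maxHeartbeats 1000000

universe u

open CategoryTheory Limits AlgebraicGeometry

attribute [local instance] HasDerivedCategory.standard

noncomputable section

namespace Groth.Agent.HTorCompute

open Groth.Agent.DCohLib Groth.Agent.TildeLpull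

variable {A : Type u} [CommRing A]

theorem flat_of_projective (M : ModuleCat.{u} A) [Projective M] : Module.Flat A M :=
  haveI : Module.Projective A M := (IsProjective.iff_projective (R := A) M).2 inferInstance
  Module.Flat.of_projective

theorem isKFlat_tilCx_bdd (L : DRing.Cx A) (c : ℤ) (hc : DRing.VanishesAbove L c) (hL : ∀ i, Module.Flat A (L.X i)) :
    DCoh.IsKFlat ((tilCx (CommRingCat.of A)).obj L) :=
  haveI : (tilde.functor (CommRingCat.of A)).Additive := Groth.Agent.TildeKFlat.additive_til (CommRingCat.of A)
  isKFlat_of_flat_bddAbove _ c (fun n hn => (tilde.functor (CommRingCat.of A)).map_isZero (hc n hn))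
    (isFlat_tilCx L hL)

/-- Inverse images of tilde of flat bounded above complexes. -/
theorem nonempty_lpull_tildeD_toD {B : Type u} [CommRing B] (φ : A →+* B) [DCoh.HasLpull (specMap φ)]
    (L : DRing.Cx A) (c : ℤ) (hc : DRing.VanishesAbove L c) (hL : ∀ i, Module.Flat A (L.X i)) :
    Nonempty ((DCoh.Lpull (specMap φ)).obj ((DCoh.tildeD (CommRingCat.of A)).obj (DRing.toD L)) ≅
      (DCoh.tildeD (CommRingCat.of B)).obj (DRing.toD ((extCx φ).obj L))) :=
  ⟨(DCoh.Lpull (specMap φ)).mapIso ((tildeDFactors (CommRingCat.of A)).app L) ≪≫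
    lpullIsoK (specMap φ) _ (isKFlat_tilCx_bdd L c hc hL) ≪≫
    DerivedCategory.Q.mapIso ((tilPullCxIso φ).app L) ≪≫
    ((tildeDFactors (CommRingCat.of B)).app ((extCx φ).obj L)).symm⟩

end Groth.Agent.HTorCompute
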